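import Cfsg.Agent.Lib.NoScnThree.Special
import Cfsg.Agent.Lib.HigmanRankTwo.Quadratic
import Cfsg.Agent.Lib.PGroup.Extraspecial
import Cfsg.Agent.Lib.A5Radical.Eight

/-!
The small special groups: `Q₈`, `2^{1+4}_-`, and order 64 with three involutions.
-/

set_option autoImplicit false
set_option linter.style.haveILetI false
set_option linter.unusedSectionVars false
set_option maxHeartbeats 400000

namespace Cfsg.Agent.NoScnThree

open scoped commutatorElement

variable {X : Type*} [Group X] [Finite X] {A : Subgroup (MulAut X)}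

/-- The squares outside the centre are constant when there are at most 8 classes. -/
theorem sq_constant (S : Base X A) (P : Spec X A) (h8 : Nat.card (X ⧸ Subgroup.center X) ≤ 8) :
    ∀ x y : X, x ∉ Subgroup.center X → y ∉ Subgroup.center X → x * x = y * y := by
  classical
  set Z := Subgroup.center X with hZ
  haveI : Fintype A := Fintype.ofFinite A
  haveI : Fintype (X ⧸ Z) := Fintype.ofFinite _
  have hmap : ∀ ψ : MulAut X, Z.map ψ.toMonoidHom = Z := fun ψ =>
    Subgroup.characteristic_iff_map_eq.mp inferInstance ψ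
  let f : A →* MulAut (X ⧸ Z) :=
    { toFun := fun ψ => QuotientGroup.congr Z Z ψ.1 (hmap _)
      map_one' := MulEquiv.ext fun q => by induction q using QuotientGroup.induction_on with | _ t => rfl
      map_mul' := fun ψ χ => MulEquiv.ext fun q => by
        induction q using QuotientGroup.induction_on with | _ t => rfl }
  letI : MulAction A (X ⧸ Z) := MulAction.compHom _ f
  have hsmul : ∀ (ψ : A) (t : X), ψ • (t : X ⧸ Z) = ((ψ.1 t : X) : X ⧸ Z) := fun ψ t => rfl
  have hsub : Z ≤ commutator X := P.special.2.2.ge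
  -- no fixed class
  have hnofix : ∀ q : X ⧸ Z, (∀ ψ : A, ψ • q = q) → q = 1 := by
    have hcom : ∀ a b : X ⧸ Z, a * b = b * a := fun a b => by
      induction a using QuotientGroup.induction_on with
      | _ x =>
        induction b using QuotientGroup.induction_on with
        | _ y =>
          rw [← commutatorElement_eq_one_iff_mul_comm, ← QuotientGroup.mk'_apply Z,
            ← QuotientGroup.mk'_apply Z, ← map_commutatorElement]
          exact (QuotientGroup.eq_one_iff _).mpr (P.comm x y)
    letI : CommGroup (X ⧸ Z) := { (inferInstance : Group (X ⧸ Z)) with mul_comm := hcom }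
    let ν : X →* X ⧸ Z :=
      { toFun := fun x => ∏ ψ : A, ((ψ.1 x : X) : X ⧸ Z)
        map_one' := by simp
        map_mul' := fun x y => by simp [Finset.prod_mul_distrib] }
    intro q hq
    induction q using QuotientGroup.induction_on with
    | _ z =>
      have h1 := hom_eq_one S.gen ν (fun φ hφ y => by
        show ∏ ψ : A, ((ψ.1 (φ y) : X) : X ⧸ Z) = ∏ ψ : A, ((ψ.1 y : X) : X ⧸ Z)
        exact Fintype.prod_equiv (Equiv.mulRight (⟨φ, hφ⟩ : A)) _ _ fun ψ => rfl) z
      have h2 : (z : X ⧸ Z) ^ Fintype.card A = 1 := by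
        rw [← h1]
        show _ = ∏ ψ : A, ((ψ.1 z : X) : X ⧸ Z)
        rw [Finset.prod_congr rfl fun ψ _ => (hsmul ψ z).symm.trans (hq ψ), Finset.prod_const, Finset.card_univ]
      have h3 : (z : X ⧸ Z) ^ 2 = 1 := by
        rw [pow_two, ← QuotientGroup.mk_mul]; exact (QuotientGroup.eq_one_iff _).mpr (P.sq z)
      obtain ⟨m, hm⟩ := S.odd
      rw [← Nat.card_eq_fintype_card, hm, pow_succ, pow_mul, h3, one_pow, one_mul] at h2
      exact h2
  -- orbit sizes
  have hsize : ∀ q : X ⧸ Z, q ≠ 1 →
      Odd (MulAction.orbit A q).toFinset.card ∧ 3 ≤ (MulAction.orbit A q).toFinset.card := by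
    intro q hq
    have hodd : Odd (MulAction.orbit A q).toFinset.card := by
      rw [Set.toFinset_card]
      refine Odd.of_dvd_nat (n := Fintype.card A) ?_ ⟨_, (MulAction.card_orbit_mul_card_stabilizer_eq_card_group A q).symm⟩
      rw [← Nat.card_eq_fintype_card]; exact S.odd
    refine ⟨hodd, ?_⟩
    by_contra hlt
    obtain ⟨m, hm⟩ := hodd
    refine hq (hnofix q fun ψ => ?_)
    have h1 : (MulAction.orbit A q).toFinset.card = 1 := by omega
    obtain ⟨w, hw⟩ := Finset.card_eq_one.mp h1
    have a1 : ψ • q ∈ (MulAction.orbit A q).toFinset := by simp [MulAction.mem_orbit]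
    have a2 : q ∈ (MulAction.orbit A q).toFinset := by simp
    rw [hw, Finset.mem_singleton] at a1 a2
    rw [a1, a2]
  have hdisj : ∀ p q : X ⧸ Z, q ∉ (MulAction.orbit A p).toFinset →
      Disjoint (MulAction.orbit A p).toFinset (MulAction.orbit A q).toFinset := by
    intro p q hq
    rw [Finset.disjoint_left]
    intro w hp hw
    simp only [Set.mem_toFinset] at hp hw hq
    exact hq ((MulAction.orbit_eq_iff.mpr hp).symm.trans (MulAction.orbit_eq_iff.mpr hw) ▸
      MulAction.mem_orbit_self q)
  have hone : ∀ q : X ⧸ Z, q ≠ 1 → (1 : X ⧸ Z) ∉ (MulAction.orbit A q).toFinset := by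
    intro q hq h
    obtain ⟨ψ, hψ⟩ := Set.mem_toFinset.mp h
    exact hq ((map_eq_one_iff (f ψ) (f ψ).injective).mp hψ)
  obtain ⟨n, hn⟩ := IsPGroup.iff_card.mp (S.pgroup.to_quotient Z)
  have hpar : Fintype.card (X ⧸ Z) = 2 ^ n := by rw [← Nat.card_eq_fintype_card]; exact hn
  have hle : Fintype.card (X ⧸ Z) ≤ 8 := by rw [← Nat.card_eq_fintype_card]; exact h8
  intro x y hx hy
  have hxq : (x : X ⧸ Z) ≠ 1 := fun h => hx ((QuotientGroup.eq_one_iff _).mp h)
  have hyq : (y : X ⧸ Z) ≠ 1 := fun h => hy ((QuotientGroup.eq_one_iff _).mp h)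
  have hmem : (y : X ⧸ Z) ∈ (MulAction.orbit A (x : X ⧸ Z)).toFinset := by
    by_contra hout
    obtain ⟨ox, hox⟩ := hsize _ hxq
    obtain ⟨oy, hoy⟩ := hsize _ hyq
    set O := (MulAction.orbit A (x : X ⧸ Z)).toFinset with hO
    set O' := (MulAction.orbit A (y : X ⧸ Z)).toFinset with hO'
    have hd : Disjoint O O' := hdisj _ _ hout
    have hu : (insert 1 (O ∪ O')).card = 1 + (O.card + O'.card) := by
      rw [Finset.card_insert_of_notMem (by simp [hone _ hxq, hone _ hyq, hO, hO'] ), Finset.card_union_of_disjoint hd,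
        add_comm]
    have hule := Finset.card_le_univ (insert 1 (O ∪ O'))
    obtain ⟨a, ha⟩ := ox
    obtain ⟨b, hb⟩ := oy
    have hn3 : n = 3 := by
      have h7 : 7 ≤ 2 ^ n := by omega
      have h2n : 2 ^ n ≤ 2 ^ 3 := by rw [← hpar]; exact hle
      have h3 : n ≤ 3 := (Nat.pow_le_pow_iff_right (by norm_num)).mp h2n
      interval_cases n <;> omega
    rw [hn3] at hpar
    -- one class is left over
    obtain ⟨w, hw⟩ : ∃ w, w ∉ insert 1 (O ∪ O') := by
      by_contra hall
      push Not at hall
      have := congrArg Finset.card (Finset.eq_univ_iff_forall.mpr hall)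
      rw [Finset.card_univ] at this
      omega
    simp only [Finset.mem_insert, Finset.mem_union, not_or] at hw
    obtain ⟨-, how⟩ := hsize _ hw.1
    set O'' := (MulAction.orbit A w).toFinset with hO''
    have hd2 : Disjoint (O ∪ O') O'' := Finset.disjoint_union_left.mpr ⟨hdisj _ _ hw.2.1, hdisj _ _ hw.2.2⟩
    have := Finset.card_le_univ (O ∪ O' ∪ O'')
    rw [Finset.card_union_of_disjoint hd2, Finset.card_union_of_disjoint hd] at this
    omega
  obtain ⟨ψ, hψ⟩ := Set.mem_toFinset.mp hmem
  have h1 : ((ψ.1 x)⁻¹ * y : X) ∈ Z := QuotientGroup.eq.mp hψ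
  have h2 : y = ψ.1 x * ((ψ.1 x)⁻¹ * y) := by group
  rw [h2]
  set c := (ψ.1 x)⁻¹ * y with hc
  calc x * x = ψ.1 x * ψ.1 x := by rw [← map_mul, P.fixed ψ.1 ψ.2 _ (P.sq x)]
    _ = ψ.1 x * ψ.1 x * (c * c) := by rw [P.center_sq c h1, mul_one]
    _ = ψ.1 x * (ψ.1 x * c) * c := by group
    _ = ψ.1 x * (c * ψ.1 x) * c := by rw [← Subgroup.mem_center_iff.mp h1 (ψ.1 x)]
    _ = ψ.1 x * c * (ψ.1 x * c) := by group

theorem comm_sq (P : Spec X A) (a b : X) : a * b * (a * b) = a * a * (b * b) * ⁅a, b⁆ := by
  have hc := fun u v g => Subgroup.mem_center_iff.mp (P.comm u v) g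
  have hba : ⁅b, a⁆ = ⁅a, b⁆ := by
    rw [← commutatorElement_inv a b]; exact inv_eq_of_mul_eq_one_right (P.center_sq _ (P.comm a b))
  calc a * b * (a * b) = a * (⁅b, a⁆ * a * b) * b := by rw [commutatorElement_def]; group
    _ = a * (a * b * ⁅b, a⁆) * b := by rw [mul_assoc ⁅b, a⁆ a b, hc b a (a * b)]
    _ = a * a * (b * (⁅b, a⁆ * b)) := by group
    _ = a * a * (b * (b * ⁅b, a⁆)) := by rw [hc b a b]
    _ = a * a * (b * b) * ⁅a, b⁆ := by rw [hba]; group

/-- The subgroup generated by central elements and commuting involutions is a normal elementary group. -/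
theorem no_extra (S : Base X A) (P : Spec X A) (s : Set X) (hs : ∀ g ∈ s, g * g = 1)
    (hcomm : ∀ g ∈ s, ∀ h ∈ s, g * h = h * g) :
    Nat.card (Subgroup.closure (s ∪ (Subgroup.center X : Set X))) ≤ 4 := by
  set V := Subgroup.closure (s ∪ (Subgroup.center X : Set X)) with hV
  have hcc : ∀ g ∈ s ∪ (Subgroup.center X : Set X), ∀ h ∈ s ∪ (Subgroup.center X : Set X), g * h = h * g := by
    rintro g (hg | hg) h (hh | hh)
    · exact hcomm g hg h hh
    · exact Subgroup.mem_center_iff.mp hh g
    · exact (Subgroup.mem_center_iff.mp hg h).symm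
    · exact (Subgroup.mem_center_iff.mp hg h).symm
  haveI hVc : IsMulCommutative V := Subgroup.isMulCommutative_closure hcc
  have hVn : V.Normal := Subgroup.Normal.of_commutator_le X (P.special.2.2.le.trans fun z hz =>
    Subgroup.subset_closure (Or.inr hz))
  refine S.small V hVn ⟨hVc, fun a ha => ?_⟩
  have hle : V ≤ omegaOne V := by
    refine (Subgroup.closure_le (omegaOne V)).mpr ?_
    intro g hg
    refine ⟨Subgroup.subset_closure hg, ?_⟩
    rcases hg with hg | hg
    exacts [hs g hg, P.center_sq g hg]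
  rw [pow_two]; exact (hle ha).2

theorem exists_comm (hna : ¬ IsMulCommutative X) : ∃ x y : X, ⁅x, y⁆ ≠ 1 := by
  by_contra h
  push Not at h
  exact hna ⟨⟨fun x y => commutatorElement_eq_one_iff_mul_comm.mp (h x y)⟩⟩

theorem not_mem_center_of_comm {x y : X} (h : ⁅x, y⁆ ≠ 1) :
    x ∉ Subgroup.center X ∧ y ∉ Subgroup.center X :=
  ⟨fun hx => h (commutatorElement_eq_one_iff_mul_comm.mpr (Subgroup.mem_center_iff.mp hx y).symm),
    fun hy => h (commutatorElement_eq_one_iff_mul_comm.mpr (Subgroup.mem_center_iff.mp hy x))⟩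

theorem add_self_v2 : ∀ t : ZMod 2 × ZMod 2, t + t = 0 := by decide

/-- Centre of order 4. -/
theorem order_four_case (S : Base X A) (P : Spec X A) (h4 : Nat.card (Subgroup.center X) = 4) :
    Nat.card X = 64 ∧ Nat.card {x : X // orderOf x = 2} = 3 ∧
      ∀ x : X, orderOf x = 2 → x ∈ Subgroup.center X := by
  classical
  haveI : Fact (Nat.Prime 2) := ⟨Nat.prime_two⟩
  haveI : Fintype X := Fintype.ofFinite X
  set Z := Subgroup.center X with hZ
  have hinv : ∀ x : X, x * x = 1 → x ∈ Z := by
    intro x hx
    by_contra hxZ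
    have h : Nat.card (Subgroup.closure ({x} ∪ (Z : Set X))) ≤ 4 :=
      no_extra S P {x} (by rintro g rfl; exact hx) (by rintro g rfl h rfl; rfl)
    have hlt : Z < Subgroup.closure ({x} ∪ (Z : Set X)) :=
      lt_of_le_of_ne (fun z hz => Subgroup.subset_closure (Or.inr hz))
        fun e => hxZ (e ▸ Subgroup.subset_closure (Or.inl rfl))
    have := PGroup.mul_card_le_card S.pgroup hlt
    omega
  have hord : ∀ x : X, orderOf x = 2 ↔ x ∈ Z ∧ x ≠ 1 := fun x => by
    constructor
    · intro h
      exact ⟨hinv x (by rw [← pow_two, ← h, pow_orderOf_eq_one]), fun e => by rw [e, orderOf_one] at h; omega⟩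
    · rintro ⟨h, h1⟩
      exact orderOf_eq_prime (by rw [pow_two]; exact P.center_sq x h) h1
  refine ⟨?_, ?_, fun x hx => ((hord x).mp hx).1⟩
  swap
  · rw [Nat.card_eq_fintype_card, Fintype.card_subtype,
      show Finset.univ.filter (fun x : X => orderOf x = 2) = (Z : Set X).toFinset.erase 1 by
        ext x; simp [hord, and_comm],
      Finset.card_erase_of_mem (by simp), Set.toFinset_card, Fintype.card_eq_nat_card]
    show Nat.card Z - 1 = 3
    omega
  have hcard := Subgroup.card_eq_card_quotient_mul_card_subgroup Z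
  rw [h4] at hcard
  haveI : IsKleinFour Z :=
    { card_four := h4
      exponent_two := by
        refine Nat.prime_two.eq_one_or_self_of_dvd _ (Monoid.exponent_dvd_of_forall_pow_eq_one fun z => ?_) |>.resolve_left ?_
        · exact Subtype.ext (show (z : X) ^ 2 = 1 by rw [pow_two]; exact P.center_sq _ z.2)
        · intro h1
          have := Monoid.exp_eq_one_iff.mp h1
          have := Finite.card_le_one_iff_subsingleton.mpr this
          omega }
  obtain ⟨e⟩ := IsKleinFour.nonempty_mulEquiv (G₁ := Z) (G₂ := Multiplicative (ZMod 2 × ZMod 2))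
  let Q : X → ZMod 2 × ZMod 2 := fun x => Multiplicative.toAdd (e ⟨x * x, P.sq x⟩)
  let C : X → X → ZMod 2 × ZMod 2 := fun x y => Multiplicative.toAdd (e ⟨⁅x, y⁆, P.comm x y⟩)
  have hQC : ∀ x y : X, Q (x * y) = Q x + Q y + C x y := fun x y => by
    simp only [Q, C, ← toAdd_mul, ← map_mul]
    exact congrArg _ (congrArg e (Subtype.ext (comm_sq P x y)))
  have hCadd : ∀ x w y : X, C (x * w) y = C x y + C w y := fun x w y => by
    simp only [C, ← toAdd_mul, ← map_mul]
    refine congrArg _ (congrArg e (Subtype.ext ?_))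
    show ⁅x * w, y⁆ = ⁅x, y⁆ * ⁅w, y⁆
    rw [show ⁅x * w, y⁆ = x * ⁅w, y⁆ * x⁻¹ * ⁅x, y⁆ by simp only [commutatorElement_def]; group,
      Subgroup.mem_center_iff.mp (P.comm w y) x, mul_inv_cancel_right, Subgroup.mem_center_iff.mp (P.comm x y)]
  have hQcongr : ∀ x x' : X, x⁻¹ * x' ∈ Z → Q x = Q x' := fun x x' h => by
    refine congrArg Multiplicative.toAdd (congrArg e (Subtype.ext ?_))
    show x * x = x' * x'
    set c := x⁻¹ * x' with hc
    rw [show x' = x * c by rw [hc]; group, comm_sq P, P.center_sq c h,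
      commutatorElement_eq_one_iff_mul_comm.mpr (Subgroup.mem_center_iff.mp h x), mul_one, mul_one]
  have h16 : Nat.card (X ⧸ Z) ≤ 16 := by
    have hcomm : ∀ a b : X ⧸ Z, a * b = b * a := fun a b => by
      induction a using QuotientGroup.induction_on with
      | _ x =>
        induction b using QuotientGroup.induction_on with
        | _ y =>
          rw [← commutatorElement_eq_one_iff_mul_comm, ← QuotientGroup.mk'_apply Z,
            ← QuotientGroup.mk'_apply Z, ← map_commutatorElement]
          exact (QuotientGroup.eq_one_iff _).mpr (P.comm x y)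
    letI : CommGroup (X ⧸ Z) := { (inferInstance : Group (X ⧸ Z)) with mul_comm := hcomm }
    let q : X ⧸ Z → ZMod 2 × ZMod 2 := Quotient.lift Q fun x x' h =>
      hQcongr x x' (QuotientGroup.leftRel_apply.mp h)
    have hq : ∀ x : X, q (x : X ⧸ Z) = Q x := fun x => rfl
    have h2z : ∀ t : ZMod 2 × ZMod 2, t + t = 0 := add_self_v2
    refine HigmanRankTwo.card_le_sixteen_of_quadratic (fun a => ?_) q ?_ (fun a b c => ?_) (fun a ha => ?_)
    · induction a using QuotientGroup.induction_on with
      | _ x => rw [← QuotientGroup.mk_mul]; exact (QuotientGroup.eq_one_iff _).mpr (P.sq x)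
    · show Q 1 = 0
      simp only [Q, mul_one]
      show Multiplicative.toAdd (e 1) = 0
      rw [map_one, toAdd_one]
    · induction a using QuotientGroup.induction_on with
      | _ x =>
        induction b using QuotientGroup.induction_on with
        | _ y =>
          induction c using QuotientGroup.induction_on with
          | _ w =>
            simp only [← QuotientGroup.mk_mul, hq]
            have h3 : ∀ p q' r : ZMod 2 × ZMod 2, p + q' + r + p + q' = r := fun p q' r => by
              calc p + q' + r + p + q' = (p + p) + (q' + q') + r := by abel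
                _ = r := by rw [h2z, h2z, zero_add, zero_add]
            rw [hQC (x * w) y, hQC x y, hQC w y, h3, h3, h3, hCadd]
    · induction a using QuotientGroup.induction_on with
      | _ x =>
        rw [hq] at ha
        refine (QuotientGroup.eq_one_iff _).mpr (hinv x ?_)
        have : e ⟨x * x, P.sq x⟩ = 1 := Multiplicative.toAdd.injective (ha.trans toAdd_one.symm)
        exact congrArg Subtype.val ((map_eq_one_iff e e.injective).mp this)
  obtain ⟨n, hn⟩ := IsPGroup.iff_card.mp (S.pgroup.to_quotient Z)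
  by_cases h8 : Nat.card (X ⧸ Z) ≤ 8
  · exfalso
    have hconst := sq_constant S P h8
    have hna : ¬ ∀ a b : X, ⁅a, b⁆ = 1 := fun h => by
      have htop : Z = ⊤ := eq_top_iff.mpr fun x _ => Subgroup.mem_center_iff.mpr fun g =>
        commutatorElement_eq_one_iff_mul_comm.mp (h g x)
      have hb : commutator X = ⊥ := by
        rw [commutator_def, Subgroup.commutator_eq_bot_iff_le_centralizer]
        exact fun x _ => Subgroup.mem_centralizer_iff.mpr fun g _ => commutatorElement_eq_one_iff_mul_comm.mp (h g x)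
      have this : commutator X = Z := P.special.2.2
      rw [hb] at this
      rw [← this, Subgroup.card_bot] at h4
      omega
    push Not at hna
    obtain ⟨a, b, hab⟩ := hna
    obtain ⟨haZ, -⟩ := not_mem_center_of_comm hab
    set c := a * a with hc
    have hcomm : ∀ x y : X, ⁅x, y⁆ ∈ Subgroup.zpowers c := by
      intro x y
      by_cases h : ⁅x, y⁆ = 1
      · rw [h]; exact one_mem _
      obtain ⟨hx, hy⟩ := not_mem_center_of_comm h
      have hxy : x * y ∉ Z := fun hh => h (by
        have h0 := commutatorElement_eq_one_iff_mul_comm.mpr (Subgroup.mem_center_iff.mp hh x)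
        rw [show ⁅x, x * y⁆ = x * ⁅x, y⁆ * x⁻¹ by simp only [commutatorElement_def]; group,
          Subgroup.mem_center_iff.mp (P.comm x y) x, mul_inv_cancel_right] at h0
        exact h0)
      have e1 := comm_sq P x y
      rw [hconst _ _ hxy haZ, hconst _ _ hx haZ, hconst _ _ hy haZ, P.center_sq _ (P.sq a), one_mul] at e1
      rw [← e1]; exact Subgroup.mem_zpowers c
    have hle : Z ≤ Subgroup.zpowers c := by
      rw [← (show commutator X = Z from P.special.2.2), commutator_def, Subgroup.commutator_le]
      exact fun x _ y _ => hcomm x y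
    have h := Subgroup.card_le_of_le hle
    rw [h4, Nat.card_zpowers] at h
    have hc2 : orderOf c ≤ 2 := orderOf_le_of_pow_eq_one (by norm_num) (by rw [pow_two]; exact P.center_sq _ (P.sq a))
    omega
  · have : Nat.card (X ⧸ Z) = 16 := by
      rw [hn] at h8 h16 ⊢
      have : n ≤ 4 := by
        by_contra hlt
        have : 2 ^ 5 ≤ 2 ^ n := Nat.pow_le_pow_right (by norm_num) (by omega)
        omega
      interval_cases n <;> simp_all
    omega

/-- Centre of order 2. -/
theorem order_two_case (hna : ¬ IsMulCommutative X) (S : Base X A) (P : Spec X A)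
    (h2 : Nat.card (Subgroup.center X) = 2) :
    Nonempty (X ≃* QuaternionGroup 2) ∨
      (Cfsg.IsExtraspecial 2 X ∧ Nat.card X = 32 ∧ Nat.card {x : X // orderOf x = 2} = 11) := by
  classical
  haveI : Fact (Nat.Prime 2) := ⟨Nat.prime_two⟩
  haveI : Fintype X := Fintype.ofFinite X
  set Z := Subgroup.center X with hZ
  have hES : Cfsg.IsExtraspecial 2 X := ⟨P.special, h2⟩
  obtain ⟨a, b, hab⟩ := exists_comm hna
  set z := ⁅a, b⁆ with hzdef
  have hzZ : z ∈ Z := P.comm a b
  have hZ2 : ∀ w ∈ Z, w = 1 ∨ w = z := by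
    intro w hw
    have hs : ({1, z} : Finset X) = (Z : Set X).toFinset := by
      refine Finset.eq_of_subset_of_card_le ?_ ?_
      · intro u hu; simp only [Finset.mem_insert, Finset.mem_singleton] at hu
        rcases hu with rfl | rfl <;> simp [hzZ]
      · rw [Set.toFinset_card, Finset.card_pair (Ne.symm hab), Fintype.card_eq_nat_card]
        exact le_of_eq h2
    have : w ∈ ({1, z} : Finset X) := by rw [hs]; simpa using hw
    simpa using this
  have hcz : ∀ g : X, g * z = z * g := fun g => Subgroup.mem_center_iff.mp hzZ g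
  have hzz : z * z = 1 := P.center_sq z hzZ
  -- centralisers have index two
  have hidx : ∀ x : X, x ∉ Z → Nat.card X = 2 * Nat.card (Subgroup.centralizer {x}) ∧
      ∀ g, g ∉ Subgroup.centralizer {x} → ⁅g, x⁆ = z := by
    intro x hx
    let f : X →* Z :=
      { toFun := fun g => ⟨⁅g, x⁆, P.comm g x⟩
        map_one' := Subtype.ext (by simp)
        map_mul' := fun g h => Subtype.ext (show ⁅g * h, x⁆ = ⁅g, x⁆ * ⁅h, x⁆ by
          rw [show ⁅g * h, x⁆ = g * ⁅h, x⁆ * g⁻¹ * ⁅g, x⁆ by simp only [commutatorElement_def]; group,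
            Subgroup.mem_center_iff.mp (P.comm h x) g, mul_inv_cancel_right,
            Subgroup.mem_center_iff.mp (P.comm g x)]) }
    have hker : f.ker = Subgroup.centralizer {x} := by
      ext g
      rw [MonoidHom.mem_ker, Subgroup.mem_centralizer_singleton_iff, ← commutatorElement_eq_one_iff_mul_comm]
      exact ⟨congrArg Subtype.val, fun h => Subtype.ext h⟩
    have hval : ∀ g, g ∉ Subgroup.centralizer {x} → ⁅g, x⁆ = z := fun g hg =>
      (hZ2 _ (P.comm g x)).resolve_left fun e => hg (hker ▸ Subtype.ext e)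
    refine ⟨?_, hval⟩
    have hsurj : Function.Surjective f := by
      intro w
      rcases hZ2 w w.2 with e | e
      · exact ⟨1, Subtype.ext (by rw [e, map_one, OneMemClass.coe_one])⟩
      · obtain ⟨g, hg⟩ : ∃ g, g ∉ Subgroup.centralizer {x} := by
          by_contra hall
          push Not at hall
          exact hx (Subgroup.mem_center_iff.mpr fun g => Subgroup.mem_centralizer_singleton_iff.mp (hall g))
        exact ⟨g, Subtype.ext ((hval g hg).trans e.symm)⟩
    have hc := Subgroup.card_eq_card_quotient_mul_card_subgroup f.ker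
    rw [Nat.card_congr (QuotientGroup.quotientKerEquivOfSurjective f hsurj).toEquiv, h2, hker] at hc
    exact hc
  by_cases hinv : ∃ x : X, x * x = 1 ∧ x ∉ Z
  swap
  · push Not at hinv
    left
    obtain ⟨haZ, hbZ⟩ := not_mem_center_of_comm hab
    have hsq : ∀ x : X, x ∉ Z → x * x = z := fun x hx =>
      (hZ2 _ (P.sq x)).resolve_left fun e => hx (hinv x e)
    have hCsub : Subgroup.centralizer {a} ≤ Z ⊔ Subgroup.zpowers a := by
      intro w hw
      by_cases hwZ : w ∈ Z
      · exact Subgroup.mem_sup_left hwZ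
      have hwa : w * a = a * w := Subgroup.mem_centralizer_singleton_iff.mp hw
      have : w * a ∈ Z := hinv _ (by
        rw [comm_sq P, commutatorElement_eq_one_iff_mul_comm.mpr hwa, mul_one, hsq w hwZ, hsq a haZ, hzz])
      rw [show w = w * a * a⁻¹ by group]
      exact mul_mem (Subgroup.mem_sup_left this) (Subgroup.mem_sup_right (inv_mem (Subgroup.mem_zpowers a)))
    have hC4 : Nat.card (Subgroup.centralizer {a}) ≤ 4 := by
      refine (Subgroup.card_le_of_le hCsub).trans ?_
      rw [PGroup.card_sup_zpowers Z haZ (by rw [pow_two]; exact P.sq a), h2]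
    have h8 : Nat.card X ≤ 8 := by rw [(hidx a haZ).1]; omega
    have ha4 : a ^ 4 = 1 := by rw [show 4 = 2 * 2 from rfl, pow_mul, pow_two a, hsq a haZ, pow_two, hzz]
    have hne : a * a ≠ 1 := by rw [hsq a haZ]; exact hab
    have hyx : a * b = b * a⁻¹ := by
      have h1 : a * b = z * (b * a) := by rw [hzdef, commutatorElement_def]; group
      have h2' : a⁻¹ = a * z := by
        refine inv_eq_of_mul_eq_one_right ?_
        rw [← mul_assoc, hsq a haZ, hzz]
      rw [h1, h2', ← hcz, mul_assoc]
    obtain ⟨e⟩ := A5Radical.nonempty_quaternion ha4 hne (by rw [hsq a haZ, hsq b hbZ]) hyx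
    have htop : Subgroup.closure ({a, b} : Set X) = ⊤ := by
      refine Subgroup.eq_top_of_card_eq _ (le_antisymm (Subgroup.card_le_card_group _) ?_)
      rw [← Nat.card_congr e.toEquiv, Nat.card_eq_fintype_card (α := QuaternionGroup 2), QuaternionGroup.card]
      exact h8
    exact ⟨((e.trans (MulEquiv.subgroupCongr htop)).trans Subgroup.topEquiv).symm⟩
  obtain ⟨x, hx, hxZ⟩ := hinv
  set C := Subgroup.centralizer ({x} : Set X) with hC
  set H := Z ⊔ Subgroup.zpowers x with hH
  have hH4 : Nat.card H = 4 := by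
    rw [hH, PGroup.card_sup_zpowers Z hxZ (by rw [pow_two]; exact P.sq x), h2]
  have hxC : x ∈ C := Subgroup.mem_centralizer_singleton_iff.mpr rfl
  have hzC : z ∈ C := Subgroup.mem_centralizer_singleton_iff.mpr (hcz x).symm
  have hHC : H ≤ C := sup_le (fun w hw => Subgroup.mem_centralizer_singleton_iff.mpr
    (Subgroup.mem_center_iff.mp hw x).symm) (Subgroup.zpowers_le.mpr hxC)
  have hin : ∀ w ∈ C, w * w = 1 → w ∈ H := by
    intro w hw hww
    by_contra hwH
    have hV : Nat.card (Subgroup.closure ({x, w} ∪ (Z : Set X))) ≤ 4 := no_extra S P {x, w} (by rintro g (rfl | rfl) <;> assumption) (by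
      have hwx := Subgroup.mem_centralizer_singleton_iff.mp hw
      rintro g (rfl | rfl) h (rfl | rfl)
      exacts [rfl, hwx.symm, hwx, rfl])
    have hlt : H < Subgroup.closure ({x, w} ∪ (Z : Set X)) :=
      lt_of_le_of_ne (sup_le (fun u hu => Subgroup.subset_closure (Or.inr hu))
        (Subgroup.zpowers_le.mpr (Subgroup.subset_closure (Or.inl (Or.inl rfl)))))
        fun e => hwH (e ▸ Subgroup.subset_closure (Or.inl (Or.inr rfl)))
    have := PGroup.mul_card_le_card S.pgroup hlt
    omega
  have hCsq : ∀ w ∈ C, w ∉ H → w * w = z := fun w hw hwH =>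
    (hZ2 _ (P.sq w)).resolve_left fun e => hwH (hin w hw e)
  have hC16 : Nat.card C ≤ 16 := by
    by_cases hCH : C ≤ H
    · exact (Subgroup.card_le_of_le hCH).trans (by omega)
    obtain ⟨y, hy, hyH⟩ := SetLike.not_le_iff_exists.mp hCH
    have hyZ : y ∉ Z := fun h => hyH (Subgroup.mem_sup_left h)
    haveI : H.Normal := Subgroup.Normal.of_commutator_le X (P.special.2.2.le.trans le_sup_left)
    have hsub : C ⊓ Subgroup.centralizer {y} ≤ H ⊔ Subgroup.zpowers y := by
      rintro w ⟨hw, hwy⟩
      by_cases hwH : w ∈ H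
      · exact Subgroup.mem_sup_left hwH
      have hwy' : w * y = y * w := Subgroup.mem_centralizer_singleton_iff.mp hwy
      have : w * y ∈ H := hin _ (mul_mem hw hy) (by
        rw [comm_sq P, commutatorElement_eq_one_iff_mul_comm.mpr hwy', mul_one, hCsq w hw hwH,
          hCsq y hy hyH, hzz])
      rw [show w = w * y * y⁻¹ by group]
      exact mul_mem (Subgroup.mem_sup_left this) (Subgroup.mem_sup_right (inv_mem (Subgroup.mem_zpowers y)))
    have h8 : Nat.card (C ⊓ Subgroup.centralizer {y} : Subgroup X) ≤ 8 := by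
      refine (Subgroup.card_le_of_le hsub).trans ?_
      rw [PGroup.card_sup_zpowers H hyH (Subgroup.mem_sup_left (by rw [pow_two]; exact P.sq y)), hH4]
    obtain ⟨hcy, -⟩ := hidx y hyZ
    have hi : (Subgroup.centralizer {y} : Subgroup X).index = 2 := by
      have := Subgroup.card_mul_index (Subgroup.centralizer {y} : Subgroup X)
      rw [hcy] at this
      have hpos : 0 < Nat.card (Subgroup.centralizer {y} : Subgroup X) := Nat.card_pos
      exact Nat.eq_of_mul_eq_mul_left hpos (this.trans (mul_comm _ _))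
    haveI : (Subgroup.centralizer {y} : Subgroup X).Normal :=
      Subgroup.Normal.of_commutator_le X (P.special.2.2.le.trans (Subgroup.center_le_centralizer _))
    have hrel : (Subgroup.centralizer {y} : Subgroup X).relIndex C ≤ 2 := by
      rw [← hi]
      exact Nat.le_of_dvd (by omega) (Subgroup.relIndex_dvd_index_of_normal _ _)
    have hmul := Subgroup.card_mul_index ((Subgroup.centralizer {y} : Subgroup X).subgroupOf C)
    have he : Nat.card ((Subgroup.centralizer {y} : Subgroup X).subgroupOf C) =
        Nat.card (C ⊓ Subgroup.centralizer {y} : Subgroup X) := by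
      rw [← Subgroup.inf_subgroupOf_right, inf_comm]
      exact Nat.card_congr (Subgroup.subgroupOfEquivOfLe inf_le_left).toEquiv
    rw [he] at hmul
    rw [← hmul]
    exact (Nat.mul_le_mul h8 hrel)
  obtain ⟨hcardX, hout⟩ := hidx x hxZ
  rw [← hC] at hcardX hout
  obtain ⟨n, hn1, hn, -⟩ := PGroup.extraspecial_card hES
  have hX : Nat.card X = 32 := by
    have h16 : Nat.card X ≤ 32 := by omega
    have : n ≤ 2 := by
      by_contra hlt
      have : 2 ^ 7 ≤ 2 ^ (2 * n + 1) := Nat.pow_le_pow_right (by norm_num) (by omega)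
      omega
    interval_cases n
    · exfalso
      have h8 : Nat.card X = 8 := hn
      have hq : Nat.card (X ⧸ Z) ≤ 8 := by
        have := Subgroup.card_eq_card_quotient_mul_card_subgroup Z
        rw [h2] at this
        omega
      have hconst := sq_constant S P hq
      have hall : ∀ w : X, w * w = 1 := fun w => by
        by_cases hw : w ∈ Z
        · exact P.center_sq w hw
        · rw [hconst w x hw hxZ, hx]
      have := comm_sq P a b
      rw [hall, hall, hall, one_mul, one_mul] at this
      exact hab this.symm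
    · exact hn
  refine Or.inr ⟨hES, hX, ?_⟩
  have hC : Nat.card C = 16 := by omega
  have hz1 : z ≠ 1 := hab
  have hx1 : x ≠ 1 := fun e => hxZ (e ▸ one_mem _)
  rw [Nat.card_eq_fintype_card, Fintype.card_subtype]
  have hsplit : (Finset.univ.filter fun w : X => orderOf w = 2) =
      ((H : Set X).toFinset.erase 1) ∪ Finset.univ.filter (fun w : X => w ∉ C ∧ w * w = 1) := by
    ext w
    simp only [Finset.mem_filter, Finset.mem_univ, true_and, Finset.mem_union, Finset.mem_erase, Set.mem_toFinset,
      SetLike.mem_coe]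
    constructor
    · intro h
      have hw1 : w ≠ 1 := fun e => by rw [e, orderOf_one] at h; omega
      have hww : w * w = 1 := by rw [← pow_two, ← h, pow_orderOf_eq_one]
      by_cases hwC : w ∈ C
      · exact Or.inl ⟨hw1, hin w hwC hww⟩
      · exact Or.inr ⟨hwC, hww⟩
    · rintro (⟨h1, hwH⟩ | ⟨h1, h2'⟩)
      · refine orderOf_eq_prime ?_ h1
        obtain ⟨u, hu, t, ht, rfl⟩ := Subgroup.mem_sup_of_normal_left.mp hwH
        rw [pow_two, comm_sq P, P.center_sq u hu,
          commutatorElement_eq_one_iff_mul_comm.mpr (Subgroup.mem_center_iff.mp hu t).symm, mul_one, one_mul]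
        obtain ⟨k, rfl⟩ := Subgroup.mem_zpowers_iff.mp ht
        rw [← zpow_add, ← two_mul, zpow_mul, zpow_two, hx, one_zpow]
      · exact orderOf_eq_prime (by rw [pow_two]; exact h2') fun e => h1 (e ▸ one_mem C)
  have hdisj : Disjoint ((H : Set X).toFinset.erase 1) (Finset.univ.filter fun w : X => w ∉ C ∧ w * w = 1) := by
    rw [Finset.disjoint_left]
    intro w hw hw'
    simp only [Finset.mem_erase, Set.mem_toFinset, SetLike.mem_coe] at hw
    simp only [Finset.mem_filter] at hw'
    exact hw'.2.1 (hHC hw.2)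
  rw [hsplit, Finset.card_union_of_disjoint hdisj, Finset.card_erase_of_mem (by simp), Set.toFinset_card,
    Fintype.card_eq_nat_card]
  have hflip : ∀ w : X, w ∉ C → (w * x ∉ C ∧ (w * x * (w * x) = 1 ↔ ¬ w * w = 1)) := by
    intro w hw
    refine ⟨fun h => hw (by simpa using mul_mem h (inv_mem hxC)), ?_⟩
    rw [comm_sq P, hx, mul_one, hout w hw]
    rcases hZ2 _ (P.sq w) with e | e <;> rw [e] <;> simp [hz1, hzz]
  have hbij : (Finset.univ.filter fun w : X => w ∉ C ∧ w * w = 1).card =
      (Finset.univ.filter fun w : X => w ∉ C ∧ ¬ w * w = 1).card := by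
    refine Finset.card_bij' (fun w _ => w * x) (fun w _ => w * x) ?_ ?_ ?_ ?_
    · intro w hw
      simp only [Finset.mem_filter, Finset.mem_univ, true_and] at hw ⊢
      exact ⟨(hflip w hw.1).1, fun h => ((hflip w hw.1).2.mp h) hw.2⟩
    · intro w hw
      simp only [Finset.mem_filter, Finset.mem_univ, true_and] at hw ⊢
      exact ⟨(hflip w hw.1).1, (hflip w hw.1).2.mpr hw.2⟩
    · intro w _; simp [mul_assoc, hx]
    · intro w _; simp [mul_assoc, hx]
  have htot : (Finset.univ.filter fun w : X => w ∉ C ∧ w * w = 1).card +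
      (Finset.univ.filter fun w : X => w ∉ C ∧ ¬ w * w = 1).card = 16 := by
    have h := Finset.card_filter_add_card_filter_not (s := Finset.univ.filter fun w : X => w ∉ C)
      (fun w : X => w * w = 1)
    rw [Finset.filter_filter, Finset.filter_filter] at h
    rw [h]
    have h' := Finset.card_filter_add_card_filter_not (s := (Finset.univ : Finset X)) (fun w : X => w ∈ C)
    have hcC : (Finset.univ.filter fun w : X => w ∈ C).card = 16 := by
      rw [← hC, Nat.card_eq_fintype_card, ← Fintype.card_subtype]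
    rw [Finset.card_univ, ← Nat.card_eq_fintype_card, hX, hcC] at h'
    omega
  show Nat.card H - 1 + _ = 11
  omega

end Cfsg.Agent.NoScnThree
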