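import Cfsg.Agent.Lib.NoScnThree.Setting

/-!
When the group of involutions-modulo-`E` is abelian, `Y/E` inherits the hypotheses.
-/

set_option autoImplicit false
set_option linter.style.haveILetI false
set_option linter.unusedSectionVars false

namespace Cfsg.Agent.NoScnThree.Setting

open scoped commutatorElement

variable {Y : Type*} [Group Y] [Finite Y] {A : Subgroup (MulAut Y)} {E : Subgroup Y} {φ : MulAut Y}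
  (S : Setting Y A E φ) (hab : ∀ a ∈ S.nsub, ∀ b ∈ S.nsub, a * b = b * a)
include S hab

theorem sq_mul {a b : Y} (ha : a ∈ S.nsub) (hb : b ∈ S.nsub) : a * b * (a * b) = a * a * (b * b) := by
  calc a * b * (a * b) = a * (b * a) * b := by group
    _ = a * (a * b) * b := by rw [hab b hb a ha]
    _ = a * a * (b * b) := by group

omit hab in
theorem sq_conj {a : Y} (ha : a ∈ S.nsub) (g : Y) : g * a * g⁻¹ * (g * a * g⁻¹) = a * a := by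
  rw [show g * a * g⁻¹ * (g * a * g⁻¹) = g * (a * a) * g⁻¹ by group, S.z ha.1 g, mul_inv_cancel_right]

/-- Involutions modulo `E` which are central modulo `nsub`. -/
def InL (y : Y) : Prop := y * y ∈ E ∧ ∀ g, ⁅y, g⁆ ∈ S.nsub

omit hab in
theorem inL_stable {y : Y} (hy : y * y ∈ E ∧ ∀ g, ⁅y, g⁆ ∈ S.nsub) {ψ : MulAut Y} (hψ : ψ ∈ A) :
    ψ y * ψ y ∈ E ∧ ∀ g, ⁅ψ y, g⁆ ∈ S.nsub := by
  refine ⟨by rw [← map_mul]; exact S.stable ψ hψ _ hy.1, fun g => ?_⟩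
  rw [show g = ψ (ψ⁻¹ g) from (MulAut.apply_inv_self Y ψ g).symm, ← map_commutatorElement]
  exact S.nsub_stable hψ (hy.2 _)

omit hab in
theorem self_delta {y : Y} (hy : y * y ∈ E ∧ ∀ g, ⁅y, g⁆ ∈ S.nsub) (g : Y) :
    ⁅y, ⁅y, g⁆⁆ = ⁅y, g⁆ * ⁅y, g⁆ := by
  have h1 : ⁅y * y, g⁆ = 1 := commutatorElement_eq_one_iff_mul_comm.mpr (S.z hy.1 g).symm
  have h2 : ⁅y * y, g⁆ = y * ⁅y, g⁆ * y⁻¹ * ⁅y, g⁆ := by simp only [commutatorElement_def]; group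
  have h3 : y * ⁅y, g⁆ * y⁻¹ = ⁅y, g⁆⁻¹ := eq_inv_of_mul_eq_one_left (h2.symm.trans h1)
  calc ⁅y, ⁅y, g⁆⁆ = y * ⁅y, g⁆ * y⁻¹ * ⁅y, g⁆⁻¹ := rfl
    _ = (⁅y, g⁆ * ⁅y, g⁆)⁻¹ := by rw [h3, mul_inv_rev]
    _ = _ := inv_eq_of_mul_eq_one_right (S.sq _ (hy.2 g).1)

theorem beta_mul {y : Y} (hy : y * y ∈ E ∧ ∀ g, ⁅y, g⁆ ∈ S.nsub) (g h : Y) :
    ⁅y, g * h⁆ * ⁅y, g * h⁆ = ⁅y, g⁆ * ⁅y, g⁆ * (⁅y, h⁆ * ⁅y, h⁆) := by
  have e : ⁅y, g * h⁆ = ⁅y, g⁆ * (g * ⁅y, h⁆ * g⁻¹) := by simp only [commutatorElement_def]; group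
  rw [e, S.sq_mul hab (hy.2 g) (S.nsub_normal.conj_mem _ (hy.2 h) g), S.sq_conj (hy.2 h)]

omit hab in
theorem agree_delta (hab : ∀ a ∈ S.nsub, ∀ b ∈ S.nsub, a * b = b * a) {ψ χ : MulAut Y} (hψ : ψ ∈ A)
    (hχ : χ ∈ A) (h : ∀ w ∈ E, ψ w = χ w) (x : Y) {n : Y} (hn : n ∈ S.nsub) :
    ⁅ψ x, n⁆ = ⁅χ x, n⁆ := by
  have h0 : ψ⁻¹ n ∈ S.nsub := S.nsub_stable (inv_mem hψ) hn
  calc ⁅ψ x, n⁆ = ⁅ψ x, ψ (ψ⁻¹ n)⁆ := by rw [MulAut.apply_inv_self]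
    _ = χ ⁅x, ψ⁻¹ n⁆ := by rw [← map_commutatorElement, h _ (S.comm_right h0 x)]
    _ = ⁅χ x, χ (ψ⁻¹ n)⁆ := map_commutatorElement _ _ _
    _ = ⁅χ x, n⁆ := S.delta_congr hab (S.nsub_stable hχ h0) hn (by
        rw [← map_mul, ← h _ h0.1, map_mul, MulAut.apply_inv_self]) _

theorem trace (g : Y) {n : Y} (hn : n ∈ S.nsub) : ⁅g, n⁆ * ⁅φ g, n⁆ * ⁅φ (φ g), n⁆ = 1 := by
  let f : Y →* Y :=
    { toFun := fun g => ⁅g, n⁆ * ⁅φ g, n⁆ * ⁅φ (φ g), n⁆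
      map_one' := by simp
      map_mul' := fun x y => by
        have c := fun u v => S.z (S.comm_right hn u) v
        simp only [map_mul, S.delta_mul_left hn]
        calc ⁅x, n⁆ * ⁅y, n⁆ * (⁅φ x, n⁆ * ⁅φ y, n⁆) * (⁅φ (φ x), n⁆ * ⁅φ (φ y), n⁆)
            = ⁅x, n⁆ * (⁅y, n⁆ * ⁅φ x, n⁆) * (⁅φ y, n⁆ * ⁅φ (φ x), n⁆) * ⁅φ (φ y), n⁆ := by group
          _ = ⁅x, n⁆ * (⁅φ x, n⁆ * ⁅y, n⁆) * (⁅φ (φ x), n⁆ * ⁅φ y, n⁆) * ⁅φ (φ y), n⁆ := by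
              rw [c (φ x), c (φ (φ x))]
          _ = ⁅x, n⁆ * ⁅φ x, n⁆ * (⁅y, n⁆ * ⁅φ (φ x), n⁆) * (⁅φ y, n⁆ * ⁅φ (φ y), n⁆) := by group
          _ = ⁅x, n⁆ * ⁅φ x, n⁆ * (⁅φ (φ x), n⁆ * ⁅y, n⁆) * (⁅φ y, n⁆ * ⁅φ (φ y), n⁆) := by
              rw [c (φ (φ x))]
          _ = _ := by group }
  refine hom_eq_one S.gen f (fun ψ hψ x => ?_) g
  have hp1 := S.mem
  have hp2 : φ * φ ∈ A := mul_mem hp1 hp1
  show ⁅ψ x, n⁆ * ⁅φ (ψ x), n⁆ * ⁅φ (φ (ψ x)), n⁆ = ⁅x, n⁆ * ⁅φ x, n⁆ * ⁅φ (φ x), n⁆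
  have c := fun u v => S.z (S.comm_right hn u) v
  rcases S.agree hψ with hag | hag | hag
  · have e0 : ⁅ψ x, n⁆ = ⁅x, n⁆ := S.agree_delta hab hψ (one_mem A) (fun w hw => hag w hw) x hn
    have e1 : ⁅φ (ψ x), n⁆ = ⁅φ x, n⁆ :=
      S.agree_delta hab (mul_mem hp1 hψ) hp1 (fun w hw => congrArg φ (hag w hw)) x hn
    have e2 : ⁅φ (φ (ψ x)), n⁆ = ⁅φ (φ x), n⁆ :=
      S.agree_delta hab (mul_mem hp2 hψ) hp2 (fun w hw => congrArg (fun t => φ (φ t)) (hag w hw)) x hn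
    rw [e0, e1, e2]
  · have e0 : ⁅ψ x, n⁆ = ⁅φ x, n⁆ := S.agree_delta hab hψ hp1 hag x hn
    have e1 : ⁅φ (ψ x), n⁆ = ⁅φ (φ x), n⁆ :=
      S.agree_delta hab (mul_mem hp1 hψ) hp2 (fun w hw => congrArg φ (hag w hw)) x hn
    have e2 : ⁅φ (φ (ψ x)), n⁆ = ⁅x, n⁆ :=
      S.agree_delta hab (mul_mem hp2 hψ) (one_mem A) (fun w hw =>
        (congrArg (fun t => φ (φ t)) (hag w hw)).trans (S.cube hw)) x hn
    rw [e0, e1, e2, c x (⁅φ x, n⁆ * ⁅φ (φ x), n⁆), mul_assoc]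
  · have e0 : ⁅ψ x, n⁆ = ⁅φ (φ x), n⁆ := S.agree_delta hab hψ hp2 hag x hn
    have e1 : ⁅φ (ψ x), n⁆ = ⁅x, n⁆ :=
      S.agree_delta hab (mul_mem hp1 hψ) (one_mem A) (fun w hw =>
        (congrArg φ (hag w hw)).trans (S.cube hw)) x hn
    have e2 : ⁅φ (φ (ψ x)), n⁆ = ⁅φ x, n⁆ :=
      S.agree_delta hab (mul_mem hp2 hψ) hp1 (fun w hw => by
        show φ (φ (ψ w)) = φ w
        rw [hag w hw, S.cube (S.stable φ hp1 w hw)]) x hn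
    rw [e0, e1, e2, mul_assoc, c (φ (φ x))]

/-- A nontrivial value `a = ⁅y,g⁆²` spans the fixed line of `y`. -/
theorem line {y g a : Y} (hy : y * y ∈ E ∧ ∀ g, ⁅y, g⁆ ∈ S.nsub) (ha : a = ⁅y, g⁆ * ⁅y, g⁆)
    (h1 : a ≠ 1) {n : Y} (hn : n ∈ S.nsub) (hfix : ⁅y, n⁆ = n * n) : n * n = 1 ∨ n * n = a := by
  set r1 := ⁅y, g⁆ with hr1
  have h_r1 : r1 ∈ S.nsub := hy.2 g
  have h_r2 : φ r1 ∈ S.nsub := S.nsub_stable S.mem h_r1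
  have h_r3 : φ (φ r1) ∈ S.nsub := S.nsub_stable S.mem h_r2
  have haE : a ∈ E := ha ▸ h_r1.1
  obtain ⟨ho, hcube, hca, hcb⟩ := S.orbit haE h1
  have haE2 := S.stable φ S.mem a haE
  have s2 : φ r1 * φ r1 = φ a := by rw [ha, map_mul]
  have s3 : φ (φ r1) * φ (φ r1) = φ (φ a) := by rw [ha, map_mul, map_mul]
  have d1 : ⁅y, r1⁆ = a := (S.self_delta hy g).trans ha.symm
  set u := ⁅y, φ r1⁆ with hu
  have huE : u ∈ E := S.comm_right h_r2 y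
  have d22 : ⁅φ y, φ r1⁆ = φ a := by rw [← map_commutatorElement, d1]
  have d23 : ⁅φ y, φ (φ r1)⁆ = φ u := by rw [← map_commutatorElement]
  have d31 : ⁅φ (φ y), r1⁆ = φ (φ u) := by
    rw [S.delta_congr hab h_r1 (S.nsub_stable S.mem h_r3)
      (by rw [← map_mul, s3, hcube, ha]) (φ (φ y)), ← map_commutatorElement, ← map_commutatorElement]
  have d21 : ⁅φ y, r1⁆ = φ a * φ u := by
    rw [S.delta_congr hab h_r1 (mul_mem h_r2 h_r3) (by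
      rw [S.sq_mul hab h_r2 h_r3, s2, s3, ho, S.z haE2 a, ← mul_assoc, S.sq _ haE2, one_mul, ha]) (φ y),
      S.delta_mul_right h_r3, d22, d23]
  have ht := S.trace hab y h_r1
  rw [d1, d21, d31] at ht
  have huu : φ u * φ (φ u) = u := by
    by_cases hu1 : u = 1
    · simp [hu1]
    obtain ⟨hu2, -, -, -⟩ := S.orbit huE hu1
    rw [hu2, S.z (S.stable φ S.mem u huE) u, ← mul_assoc, S.sq _ (S.stable φ S.mem u huE), one_mul]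
  have hu3 : u = φ (φ a) := by
    have h : a * φ a * u = 1 := by
      calc a * φ a * u = a * φ a * (φ u * φ (φ u)) := by rw [huu]
        _ = a * (φ a * φ u) * φ (φ u) := by group
        _ = 1 := ht
    rw [← ho] at h
    rw [eq_inv_of_mul_eq_one_right h]
    exact inv_eq_of_mul_eq_one_right (S.sq _ (S.stable φ S.mem _ haE2))
  have d3 : ⁅y, φ (φ r1)⁆ = φ a := by
    rw [S.delta_congr hab h_r3 (mul_mem h_r1 h_r2) (by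
      rw [S.sq_mul hab h_r1 h_r2, s2, s3, ← ha, ho]) y, S.delta_mul_right h_r2, d1, ← hu, hu3, ho,
      ← mul_assoc, S.sq _ haE, one_mul]
  rcases S.four haE haE2 h1 (fun e => h1 ((map_eq_one_iff φ φ.injective).mp e))
    (Ne.symm (S.phi_ne haE h1)) _ hn.1 with e | e | e | e
  · exact Or.inl e
  · exact Or.inr e
  · exfalso
    have h := S.delta_congr hab hn h_r2 (e.trans s2.symm) y
    rw [hfix, e, ← hu, hu3] at h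
    exact hcb h.symm
  · exfalso
    rw [← ho] at e
    have h := S.delta_congr hab hn h_r3 (e.trans s3.symm) y
    rw [hfix, e, d3] at h
    exact hcb h

theorem values {y g : Y} (hy : y * y ∈ E ∧ ∀ g, ⁅y, g⁆ ∈ S.nsub) (h1 : ⁅y, g⁆ * ⁅y, g⁆ ≠ 1)
    {y' : Y} (hy' : y' * y' ∈ E ∧ ∀ g, ⁅y', g⁆ ∈ S.nsub) (heq : ∀ n ∈ S.nsub, ⁅y', n⁆ = ⁅y, n⁆)
    (h : Y) : ⁅y', h⁆ * ⁅y', h⁆ = 1 ∨ ⁅y', h⁆ * ⁅y', h⁆ = ⁅y, g⁆ * ⁅y, g⁆ :=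
  S.line hab hy rfl h1 (hy'.2 h) (by rw [← heq _ (hy'.2 h)]; exact S.self_delta hy' h)

omit hab in
theorem comm_mem_E {a b u v : Y} (ha : a * a ∈ E ∧ ∀ g, ⁅a, g⁆ ∈ S.nsub)
    (hva : ∀ h, ⁅a, h⁆ * ⁅a, h⁆ = 1 ∨ ⁅a, h⁆ * ⁅a, h⁆ = u)
    (hvb : ∀ h, ⁅b, h⁆ * ⁅b, h⁆ = 1 ∨ ⁅b, h⁆ * ⁅b, h⁆ = v) (huv : u ≠ v) : ⁅a, b⁆ ∈ E := by
  have h : ⁅b, a⁆ * ⁅b, a⁆ = ⁅a, b⁆ * ⁅a, b⁆ := by
    rw [← commutatorElement_inv a b, ← mul_inv_rev]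
    exact inv_eq_of_mul_eq_one_right (S.sq _ (ha.2 b).1)
  have h1 : ⁅a, b⁆ * ⁅a, b⁆ = 1 := by
    rcases hva b with e | e
    · exact e
    · rcases hvb a with e' | e'
      · rwa [h] at e'
      · exact absurd ((e.symm.trans h.symm).trans e') huv
  exact S.small _ h1 (ha.2 b).2

theorem triple {a b c : Y} (ha : a * a ∈ E ∧ ∀ g, ⁅a, g⁆ ∈ S.nsub)
    (hb : b * b ∈ E ∧ ∀ g, ⁅b, g⁆ ∈ S.nsub) (hc : c * c ∈ E ∧ ∀ g, ⁅c, g⁆ ∈ S.nsub)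
    (hcomm : ⁅a, b⁆ ∈ E) (hac : ⁅a, c⁆ ∈ E) (hbc : ⁅b, c⁆ ∈ E)
    (hzero : ∀ n ∈ S.nsub, ⁅a, n⁆ * ⁅b, n⁆ * ⁅c, n⁆ = 1) (h : Y) :
    ⁅a, h⁆ * ⁅a, h⁆ * (⁅b, h⁆ * ⁅b, h⁆) * (⁅c, h⁆ * ⁅c, h⁆) = 1 := by
  haveI : E.Normal := ⟨fun e he g => by rw [S.z he g, mul_inv_cancel_right]; exact he⟩
  haveI := S.nsub_normal
  have hcz : ∀ u v : Y, ⁅u, v⁆ ∈ E → (u : Y ⧸ E) * v = (v : Y ⧸ E) * u := by
    intro u v huv
    have h0 : ((⁅u, v⁆ : Y) : Y ⧸ E) = 1 := (QuotientGroup.eq_one_iff _).mpr huv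
    rw [← QuotientGroup.mk'_apply, map_commutatorElement] at h0
    exact commutatorElement_eq_one_iff_mul_comm.mp h0
  set w := a * b * c with hw
  have hw2 : w * w ∈ E := by
    have sa : (a : Y ⧸ E) * a = 1 := by rw [← QuotientGroup.mk_mul]; exact (QuotientGroup.eq_one_iff _).mpr ha.1
    have sb : (b : Y ⧸ E) * b = 1 := by rw [← QuotientGroup.mk_mul]; exact (QuotientGroup.eq_one_iff _).mpr hb.1
    have sc : (c : Y ⧸ E) * c = 1 := by rw [← QuotientGroup.mk_mul]; exact (QuotientGroup.eq_one_iff _).mpr hc.1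
    refine (QuotientGroup.eq_one_iff _).mp ?_
    rw [hw, QuotientGroup.mk_mul, QuotientGroup.mk_mul, QuotientGroup.mk_mul]
    calc (a : Y ⧸ E) * b * c * (a * b * c) = a * b * (c * a) * b * c := by simp only [mul_assoc]
      _ = a * b * (a * c) * b * c := by rw [hcz a c hac]
      _ = a * (b * a) * (c * b) * c := by simp only [mul_assoc]
      _ = a * (a * b) * (b * c) * c := by rw [hcz a b hcomm, hcz b c hbc]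
      _ = (a * a) * (b * b) * (c * c) := by simp only [mul_assoc]
      _ = 1 := by rw [sa, sb, sc, one_mul, one_mul]
  have hexp : ∀ u v : Y, ⁅a * b * c, v⁆ = u → u =
      a * b * ⁅c, v⁆ * (a * b)⁻¹ * (a * ⁅b, v⁆ * a⁻¹ * ⁅a, v⁆) := by
    intro u v e; rw [← e]; simp only [commutatorElement_def]; group
  have hwn : ∀ g, ⁅w, g⁆ ∈ S.nsub := fun g => by
    rw [hexp _ g rfl]
    exact mul_mem (S.nsub_normal.conj_mem _ (hc.2 g) _)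
      (mul_mem (S.nsub_normal.conj_mem _ (hb.2 g) _) (ha.2 g))
  have hcent : ∀ n ∈ S.nsub, ⁅w, n⁆ = 1 := fun n hn => by
    rw [hw, S.delta_mul_left hn, S.delta_mul_left hn]; exact hzero n hn
  have hwg : ⁅w, h⁆ * ⁅w, h⁆ = 1 := by
    have h1 : ⁅w * w, h⁆ = 1 := commutatorElement_eq_one_iff_mul_comm.mpr (S.z hw2 h).symm
    have h2 : ⁅w * w, h⁆ = w * ⁅w, h⁆ * w⁻¹ * ⁅w, h⁆ := by simp only [commutatorElement_def]; group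
    rw [commutatorElement_eq_one_iff_mul_comm.mp (hcent _ (hwn h)), mul_inv_cancel_right, h1] at h2
    exact h2.symm
  rw [hexp _ h rfl, S.sq_mul hab (S.nsub_normal.conj_mem _ (hc.2 h) _)
      (mul_mem (S.nsub_normal.conj_mem _ (hb.2 h) _) (ha.2 h)),
    S.sq_conj (hc.2 h), S.sq_mul hab (S.nsub_normal.conj_mem _ (hb.2 h) _) (ha.2 h),
    S.sq_conj (hb.2 h)] at hwg
  have zc : ⁅c, h⁆ * ⁅c, h⁆ ∈ E := (hc.2 h).1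
  have zb : ⁅b, h⁆ * ⁅b, h⁆ ∈ E := (hb.2 h).1
  rw [S.z zb (⁅a, h⁆ * ⁅a, h⁆), S.z zc]
  exact hwg

/-- The key step. -/
theorem mem_nsub_of_inL {y : Y} (hy : y * y ∈ E ∧ ∀ g, ⁅y, g⁆ ∈ S.nsub) : y ∈ S.nsub := by
  refine ⟨hy.1, fun g => ?_⟩
  refine S.small _ ?_ (hy.2 g).2
  by_contra hne
  set a := ⁅y, g⁆ * ⁅y, g⁆ with ha
  have haE : a ∈ E := (hy.2 g).1
  obtain ⟨ho, hcube, hca, hcb⟩ := S.orbit haE hne
  have hba : φ a ≠ a := S.phi_ne haE hne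
  have hy2 := S.inL_stable hy S.mem
  have hy3 := S.inL_stable hy2 S.mem
  have ha2 : ⁅φ y, φ g⁆ * ⁅φ y, φ g⁆ = φ a := by rw [← map_commutatorElement, ← map_mul]
  have ha3 : ⁅φ (φ y), φ (φ g)⁆ * ⁅φ (φ y), φ (φ g)⁆ = φ (φ a) := by
    rw [← map_commutatorElement, ← map_mul, ha2]
  have hb1 : φ a ≠ 1 := fun e => hne ((map_eq_one_iff φ φ.injective).mp e)
  have hc1 : φ (φ a) ≠ 1 := fun e => hb1 ((map_eq_one_iff φ φ.injective).mp e)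
  have v1 : ∀ y' : Y, y' * y' ∈ E ∧ (∀ g, ⁅y', g⁆ ∈ S.nsub) → (∀ n ∈ S.nsub, ⁅y', n⁆ = ⁅y, n⁆) →
      ∀ h, ⁅y', h⁆ * ⁅y', h⁆ = 1 ∨ ⁅y', h⁆ * ⁅y', h⁆ = a := fun y' h1 h2 => S.values hab hy hne h1 h2
  have v2 : ∀ y' : Y, y' * y' ∈ E ∧ (∀ g, ⁅y', g⁆ ∈ S.nsub) → (∀ n ∈ S.nsub, ⁅y', n⁆ = ⁅φ y, n⁆) →
      ∀ h, ⁅y', h⁆ * ⁅y', h⁆ = 1 ∨ ⁅y', h⁆ * ⁅y', h⁆ = φ a := fun y' h1 h2 h => by
    rw [← ha2]; exact S.values hab hy2 (by rw [ha2]; exact hb1) h1 h2 h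
  have v3 : ∀ y' : Y, y' * y' ∈ E ∧ (∀ g, ⁅y', g⁆ ∈ S.nsub) → (∀ n ∈ S.nsub, ⁅y', n⁆ = ⁅φ (φ y), n⁆) →
      ∀ h, ⁅y', h⁆ * ⁅y', h⁆ = 1 ∨ ⁅y', h⁆ * ⁅y', h⁆ = φ (φ a) := fun y' h1 h2 h => by
    rw [← ha3]; exact S.values hab hy3 (by rw [ha3]; exact hc1) h1 h2 h
  have w1 := v1 y hy fun n _ => rfl
  have w2 := v2 _ hy2 fun n _ => rfl
  have w3 := v3 _ hy3 fun n _ => rfl
  -- any three representatives have the same zeros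
  have key : ∀ a1 b1 c1 : Y, (∀ n ∈ S.nsub, ⁅a1, n⁆ = ⁅y, n⁆) → (∀ n ∈ S.nsub, ⁅b1, n⁆ = ⁅φ y, n⁆) →
      (∀ n ∈ S.nsub, ⁅c1, n⁆ = ⁅φ (φ y), n⁆) → a1 * a1 ∈ E ∧ (∀ g, ⁅a1, g⁆ ∈ S.nsub) →
      b1 * b1 ∈ E ∧ (∀ g, ⁅b1, g⁆ ∈ S.nsub) → c1 * c1 ∈ E ∧ (∀ g, ⁅c1, g⁆ ∈ S.nsub) → ∀ h : Y,
      (⁅a1, h⁆ * ⁅a1, h⁆ = 1 ↔ ⁅b1, h⁆ * ⁅b1, h⁆ = 1) ∧ (⁅a1, h⁆ * ⁅a1, h⁆ = 1 ↔ ⁅c1, h⁆ * ⁅c1, h⁆ = 1) := by
    intro a1 b1 c1 h1 h2 h3 l1 l2 l3 h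
    have t := S.triple hab l1 l2 l3 (S.comm_mem_E l1 (v1 a1 l1 h1) (v2 b1 l2 h2) (Ne.symm hba))
      (S.comm_mem_E l1 (v1 a1 l1 h1) (v3 c1 l3 h3) (Ne.symm hca))
      (S.comm_mem_E l2 (v2 b1 l2 h2) (v3 c1 l3 h3) (Ne.symm hcb))
      (fun n hn => by rw [h1 n hn, h2 n hn, h3 n hn]; exact S.trace hab y hn) h
    have hbE := S.stable φ S.mem a haE
    have pbc : φ a * φ (φ a) = a := by rw [ho, S.z hbE a, ← mul_assoc, S.sq _ hbE, one_mul]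
    have pac : a * φ (φ a) = φ a := by rw [ho, ← mul_assoc, S.sq a haE, one_mul]
    rcases v1 a1 l1 h1 h with e1 | e1 <;> rcases v2 b1 l2 h2 h with e2 | e2 <;>
      rcases v3 c1 l3 h3 h with e3 | e3 <;> simp only [e1, e2, e3, one_mul, mul_one] at t ⊢ <;>
      simp only [hne, hb1, hc1, iff_self, and_self] <;>
      first
        | exact absurd t hne
        | exact absurd t hb1
        | exact absurd t hc1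
        | (exfalso; rw [pbc] at t; exact hne t)
        | (exfalso; rw [pac] at t; exact hb1 t)
        | (exfalso; rw [← ho] at t; exact hc1 t)
  -- the zero set is `A`-invariant
  have hinv : ∀ ψ ∈ A, ∀ h, (⁅y, ψ h⁆ * ⁅y, ψ h⁆ = 1 ↔ ⁅y, h⁆ * ⁅y, h⁆ = 1) := by
    intro ψ hψ h
    set y1 := ψ⁻¹ y with hy1
    have hψ' : ψ⁻¹ ∈ A := inv_mem hψ
    have hl : y1 * y1 ∈ E ∧ ∀ g, ⁅y1, g⁆ ∈ S.nsub := S.inL_stable hy hψ'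
    have e : ⁅y, ψ h⁆ * ⁅y, ψ h⁆ = ψ (⁅y1, h⁆ * ⁅y1, h⁆) := by
      rw [map_mul, map_commutatorElement, hy1, MulAut.apply_inv_self]
    rw [e, map_eq_one_iff ψ ψ.injective]
    rcases S.agree hψ' with hag | hag | hag
    · have hy' : ∀ n ∈ S.nsub, ⁅y1, n⁆ = ⁅y, n⁆ := fun n hn =>
        S.agree_delta hab hψ' (one_mem A) (fun w hw => hag w hw) y hn
      exact (key y1 _ _ hy' (fun _ _ => rfl) (fun _ _ => rfl) hl hy2 hy3 h).1.trans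
        (key y _ _ (fun _ _ => rfl) (fun _ _ => rfl) (fun _ _ => rfl) hy hy2 hy3 h).1.symm
    · have hy' : ∀ n ∈ S.nsub, ⁅y1, n⁆ = ⁅φ y, n⁆ := fun n hn => S.agree_delta hab hψ' S.mem hag y hn
      exact (key y y1 _ (fun _ _ => rfl) hy' (fun _ _ => rfl) hy hl hy3 h).1.symm
    · have hy' : ∀ n ∈ S.nsub, ⁅y1, n⁆ = ⁅φ (φ y), n⁆ := fun n hn =>
        S.agree_delta hab hψ' (mul_mem S.mem S.mem) hag y hn
      exact (key y _ y1 (fun _ _ => rfl) (fun _ _ => rfl) hy' hy hy2 hl h).2.symm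
  let f : Y →* Y :=
    { toFun := fun h => ⁅y, h⁆ * ⁅y, h⁆
      map_one' := by simp
      map_mul' := S.beta_mul hab hy }
  refine hne (hom_eq_one S.gen f (fun ψ hψ h => ?_) g)
  show ⁅y, ψ h⁆ * ⁅y, ψ h⁆ = ⁅y, h⁆ * ⁅y, h⁆
  rcases w1 h with e | e
  · rw [(hinv ψ hψ h).mpr e, e]
  · rcases w1 (ψ h) with e' | e'
    · exact absurd ((hinv ψ hψ h).mp e') (e ▸ hne)
    · rw [e', e]

end Cfsg.Agent.NoScnThree.Setting
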