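import Cfsg.Agent.Lib.NoScnThree.Descent
import Cfsg.Agent.Lib.PGroup.Basic

/-!
All involutions lie in the central four-group; hence the structure theorem applies.
-/

set_option autoImplicit false
set_option linter.style.haveILetI false
set_option linter.unusedSectionVars false

namespace Cfsg.Agent.NoScnThree

open scoped commutatorElement
open Cfsg.Agent.HigmanRankTwo Cfsg.Agent.SylL34

universe u

/-- Fixed-point-freeness from the involutions. -/
theorem fpf_of_moved {G : Type*} [Group G] [Finite G] (hG : IsPGroup 2 G) {σ : MulAut G}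
    (h : ∀ x : G, x * x = 1 → σ x = x → x = 1) (x : G) (hx : σ x = x) : x = 1 := by
  classical
  obtain ⟨k, hk⟩ := hG x
  induction k generalizing x with
  | zero => simpa using hk
  | succ k ih =>
    have h1 : x * x = 1 := ih (x * x) (by rw [map_mul, hx]) (by rw [← pow_two, ← pow_mul, ← pow_succ', hk])
    exact h x h1 hx

namespace Setting

variable {Y : Type u} [Group Y] [Finite Y] {A : Subgroup (MulAut Y)} {E : Subgroup Y} {φ : MulAut Y}
  (S : Setting Y A E φ)
include S

theorem exists_three_power : ∃ ψ ∈ A, (∃ k : ℕ, ψ ^ 3 ^ k = 1) ∧ ∀ e ∈ E, ψ e = e → e = 1 := by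
  have hn : Odd (orderOf φ) :=
    S.odd.of_dvd_nat (orderOf_dvd_of_pow_eq_one (pow_card_apply S.mem))
  obtain ⟨k, m, hm, hfac⟩ := Nat.exists_eq_pow_mul_and_not_dvd hn.pos.ne' 3 (by norm_num)
  refine ⟨φ ^ m, pow_mem S.mem m, ⟨k, by rw [← pow_mul, mul_comm, ← hfac, pow_orderOf_eq_one]⟩,
    fun e he hfix => ?_⟩
  have h3 : ∀ j : ℕ, (φ ^ (3 * j)) e = e := fun j => by
    induction j with
    | zero => rfl
    | succ j ih =>
      rw [Nat.mul_succ, Nat.add_comm, pow_add, MulAut.mul_apply, ih]
      exact S.cube he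
  by_contra h1
  obtain ⟨-, -, hca, -⟩ := S.orbit he h1
  have hdec : φ ^ m = φ ^ (m % 3) * φ ^ (3 * (m / 3)) := by rw [← pow_add, Nat.mod_add_div]
  rw [hdec, MulAut.mul_apply, h3] at hfix
  have : m % 3 = 1 ∨ m % 3 = 2 := by omega
  rcases this with e1 | e1 <;> rw [e1] at hfix
  · rw [pow_one] at hfix; exact S.phi_ne he h1 hfix
  · rw [pow_two, MulAut.mul_apply] at hfix; exact hca hfix

/-- A normal subgroup outside `E` meets `nsub` outside `E`. -/
theorem exists_mem_nsub (K : Subgroup Y) [K.Normal] (hEK : E ≤ K) (hK : ¬ K ≤ E) :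
    ∃ y ∈ K, y ∈ S.nsub ∧ y ∉ E := by
  haveI : Fact (Nat.Prime 2) := ⟨Nat.prime_two⟩
  haveI : E.Normal := ⟨fun e he g => by rw [S.z he g, mul_inv_cancel_right]; exact he⟩
  haveI : (K.map (QuotientGroup.mk' E)).Normal := Subgroup.Normal.map inferInstance _ (QuotientGroup.mk'_surjective E)
  have hne : K.map (QuotientGroup.mk' E) ≠ ⊥ := by
    rw [ne_eq, Subgroup.map_eq_bot_iff, QuotientGroup.ker_mk']
    exact hK
  obtain ⟨z, ⟨y, hy, rfl⟩, hzc, hz2⟩ :=
    PGroup.exists_orderOf_eq_mem_center (S.pgroup.to_quotient E) _ hne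
  refine ⟨y, hy, ⟨(QuotientGroup.eq_one_iff _).mp ?_, fun g => (QuotientGroup.eq_one_iff _).mp ?_⟩, ?_⟩
  · have := pow_orderOf_eq_one (QuotientGroup.mk' E y)
    rwa [hz2, pow_two, ← map_mul] at this
  · rw [← QuotientGroup.mk'_apply, map_commutatorElement, commutatorElement_eq_one_iff_mul_comm]
    exact (Subgroup.mem_center_iff.mp hzc _).symm
  · intro hyE
    rw [QuotientGroup.mk'_apply, (QuotientGroup.eq_one_iff _).mpr hyE, orderOf_one] at hz2
    omega

theorem eq_top_of_nonabelian (hnab : ¬ ∀ a ∈ S.nsub, ∀ b ∈ S.nsub, a * b = b * a) : S.nsub = ⊤ := by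
  classical
  haveI : Fact (Nat.Prime 2) := ⟨Nat.prime_two⟩
  obtain ⟨ψ, hψ, hper, hmove⟩ := S.exists_three_power
  let ψN : MulAut S.nsub :=
    { toFun := fun n => ⟨ψ n, S.nsub_stable hψ n.2⟩
      invFun := fun n => ⟨ψ⁻¹ n, S.nsub_stable (inv_mem hψ) n.2⟩
      left_inv := fun n => Subtype.ext (MulAut.inv_apply_self Y ψ n)
      right_inv := fun n => Subtype.ext (MulAut.apply_inv_self Y ψ n)
      map_mul' := fun a b => Subtype.ext (map_mul ψ (a : Y) b) }
  have hpow : ∀ (j : ℕ) (n : S.nsub), (((ψN ^ j) n : S.nsub) : Y) = (ψ ^ j) n := fun j => by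
    induction j with
    | zero => intro n; rfl
    | succ j ih =>
      intro n
      rw [pow_succ', pow_succ', MulAut.mul_apply, MulAut.mul_apply, ← ih]
      rfl
  set EN := E.subgroupOf S.nsub with hEN
  have hinv : ∀ x : S.nsub, x * x = 1 ↔ x ∈ EN := fun x => by
    constructor
    · intro h; exact S.small _ (congrArg Subtype.val h) x.2.2
    · intro h; exact Subtype.ext (S.sq _ h)
  have hTI : ThreeInv S.nsub ψN EN :=
    { pgroup := S.pgroup.to_subgroup _
      card := (Nat.card_congr (Subgroup.subgroupOfEquivOfLe S.le_nsub).toEquiv).trans S.card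
      central := fun e he => Subgroup.mem_center_iff.mpr fun g => Subtype.ext (S.z he g)
      inv := hinv
      move := fpf_of_moved (S.pgroup.to_subgroup _) fun x hx hfix =>
        Subtype.ext (hmove _ ((hinv x).mp hx) (congrArg Subtype.val hfix))
      period := by
        obtain ⟨k, hk⟩ := hper
        exact ⟨k, MulEquiv.ext fun n => Subtype.ext (by rw [hpow, hk]; rfl)⟩ }
  rcases hTI.structure_theorem with ⟨n, -, ⟨e⟩⟩ | ⟨hF, -⟩
  · exact absurd (fun a ha b hb => congrArg Subtype.val
      (e.injective (show e (⟨a, ha⟩ * ⟨b, hb⟩) = e (⟨b, hb⟩ * ⟨a, ha⟩) by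
        rw [map_mul, map_mul, mul_comm]))) hnab
  have hZ : Subgroup.center S.nsub = EN :=
    (Subgroup.eq_of_le_of_card_ge hTI.central (le_of_eq (hF.card_center.trans hTI.card.symm))).symm
  haveI := S.nsub_normal
  -- the centraliser of `nsub` is `E`
  have hC : Subgroup.centralizer (S.nsub : Set Y) ≤ E := by
    by_contra hCE
    have hEC : E ≤ Subgroup.centralizer (S.nsub : Set Y) := fun e he =>
      Subgroup.mem_centralizer_iff.mpr fun n _ => S.z he n
    obtain ⟨y, hyC, hyN, hyE⟩ := S.exists_mem_nsub _ hEC hCE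
    have : (⟨y, hyN⟩ : S.nsub) ∈ Subgroup.center S.nsub :=
      Subgroup.mem_center_iff.mpr fun g => Subtype.ext (Subgroup.mem_centralizer_iff.mp hyC g g.2)
    rw [hZ] at this
    exact hyE this
  refine eq_top_iff.mpr fun g _ => ⟨hC ?_, fun h => hC ?_⟩
  · refine Subgroup.mem_centralizer_iff.mpr fun n hn => ?_
    refine (commutatorElement_eq_one_iff_mul_comm.mp ?_).symm
    rw [S.delta_mul_left hn, S.sq _ (S.comm_right hn g)]
  · refine Subgroup.mem_centralizer_iff.mpr fun n hn => ?_
    refine (commutatorElement_eq_one_iff_mul_comm.mp ?_).symm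
    have hi : ∀ u : Y, ⁅u⁻¹, n⁆ = ⁅u, n⁆ := fun u => by
      have := S.delta_mul_left hn u⁻¹ u
      rw [inv_mul_cancel, commutatorElement_one_left] at this
      rw [eq_inv_of_mul_eq_one_left this.symm]
      exact inv_eq_of_mul_eq_one_right (S.sq _ (S.comm_right hn u))
    rw [commutatorElement_def g h, S.delta_mul_left hn, S.delta_mul_left hn, S.delta_mul_left hn, hi, hi]
    have c := S.sq _ (S.comm_right hn h)
    calc ⁅g, n⁆ * ⁅h, n⁆ * ⁅g, n⁆ * ⁅h, n⁆ = ⁅g, n⁆ * (⁅h, n⁆ * ⁅g, n⁆) * ⁅h, n⁆ := by group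
      _ = ⁅g, n⁆ * (⁅g, n⁆ * ⁅h, n⁆) * ⁅h, n⁆ := by rw [S.z (S.comm_right hn g) ⁅h, n⁆]
      _ = ⁅g, n⁆ * ⁅g, n⁆ * (⁅h, n⁆ * ⁅h, n⁆) := by group
      _ = 1 := by rw [c, S.sq _ (S.comm_right hn g), one_mul]

end Setting

theorem inv_mem_aux (n : ℕ) : ∀ (Y : Type u) [Group Y] [Finite Y] (A : Subgroup (MulAut Y))
    (E : Subgroup Y) (φ : MulAut Y), Setting Y A E φ → Nat.card Y = n → ∀ y : Y, y * y = 1 → y ∈ E := by
  classical
  induction n using Nat.strong_induction_on with
  | _ n ih =>
    intro Y _ _ A E φ S hcard y hy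
    by_cases hab : ∀ a ∈ S.nsub, ∀ b ∈ S.nsub, a * b = b * a
    swap
    · exact S.small y hy ((S.eq_top_of_nonabelian hab ▸ Subgroup.mem_top y : y ∈ S.nsub).2)
    by_cases hNE : S.nsub ≤ E
    · by_contra hyE
      obtain ⟨w, -, hw, hwE⟩ := S.exists_mem_nsub ⊤ le_top fun h => hyE (h (Subgroup.mem_top y))
      exact hwE (hNE hw)
    haveI hEn : E.Normal := ⟨fun e he g => by rw [S.z he g, mul_inv_cancel_right]; exact he⟩
    set π := QuotientGroup.mk' E with hπ
    -- square roots
    have hroot : ∀ e ∈ E, ∃ r ∈ S.nsub, r * r = e := by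
      obtain ⟨n0, hn0, hn0E⟩ := SetLike.not_le_iff_exists.mp hNE
      have ha : n0 * n0 ≠ 1 := fun h => hn0E (S.small _ h hn0.2)
      have hφn := S.nsub_stable S.mem hn0
      have hb : φ n0 * φ n0 = φ (n0 * n0) := (map_mul φ n0 n0).symm
      intro e he
      rcases S.four hn0.1 (S.stable φ S.mem _ hn0.1) ha
        (fun h => ha ((map_eq_one_iff φ φ.injective).mp h)) (Ne.symm (S.phi_ne hn0.1 ha)) e he with
        h | h | h | h
      · exact ⟨1, one_mem _, by rw [h, mul_one]⟩
      · exact ⟨n0, hn0, h.symm⟩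
      · exact ⟨φ n0, hφn, by rw [h, hb]⟩
      · exact ⟨n0 * φ n0, mul_mem hn0 hφn, by rw [S.sq_mul hab hn0 hφn, hb, h]⟩
    choose root hrootN hrootsq using hroot
    have hmap : ∀ ψ ∈ A, E.map (ψ : MulAut Y).toMonoidHom = E := fun ψ hψ => by
      refine Subgroup.eq_of_le_of_card_ge ?_ (le_of_eq ?_)
      · rintro _ ⟨e, he, rfl⟩; exact S.stable ψ hψ e he
      · exact (Nat.card_congr (E.equivMapOfInjective _ ψ.injective).toEquiv)
    let f : A →* MulAut (Y ⧸ E) :=
      { toFun := fun ψ => QuotientGroup.congr E E ψ.1 (hmap _ ψ.2)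
        map_one' := MulEquiv.ext fun q => by induction q using QuotientGroup.induction_on with | _ t => rfl
        map_mul' := fun ψ χ => MulEquiv.ext fun q => by
          induction q using QuotientGroup.induction_on with | _ t => rfl }
    have hf : ∀ (ψ : A) (t : Y), f ψ (t : Y ⧸ E) = ((ψ.1 t : Y) : Y ⧸ E) := fun ψ t => rfl
    have hlift : ∀ x : Y, (π x ∈ S.nsub.map π) → x ∈ S.nsub := fun x hx => by
      rw [← Subgroup.mem_comap, Subgroup.comap_map_eq, hπ, QuotientGroup.ker_mk',
        sup_eq_left.mpr S.le_nsub] at hx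
      exact hx
    have S' : Setting (Y ⧸ E) f.range (S.nsub.map π) (f ⟨φ, S.mem⟩) :=
      { pgroup := S.pgroup.to_quotient E
        odd := S.odd.of_dvd_nat (Subgroup.card_range_dvd f)
        gen := by
          rw [eq_top_iff, ← Subgroup.map_top_of_surjective π (QuotientGroup.mk'_surjective E), ← S.gen,
            MonoidHom.map_closure, Subgroup.closure_le]
          rintro _ ⟨_, ⟨ψ, hψ, x, rfl⟩, rfl⟩
          exact Subgroup.subset_closure ⟨f ⟨ψ, hψ⟩, ⟨_, rfl⟩, π x, by simp [hπ, hf]⟩
        central := by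
          rintro _ ⟨x, hx, rfl⟩
          refine Subgroup.mem_center_iff.mpr fun q => ?_
          obtain ⟨g, rfl⟩ := QuotientGroup.mk'_surjective E q
          rw [← commutatorElement_eq_one_iff_mul_comm, hπ, ← map_commutatorElement]
          exact (QuotientGroup.eq_one_iff _).mpr (S.comm_right hx g)
        card := by
          rw [← S.card]
          let F : E → (S.nsub.map π : Subgroup (Y ⧸ E)) := fun e =>
            ⟨π (root e e.2), Subgroup.mem_map_of_mem π (hrootN _ e.2)⟩
          refine (Nat.card_eq_of_bijective F ⟨fun e e' h => ?_, ?_⟩).symm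
          · have h' := (QuotientGroup.eq).mp (congrArg Subtype.val h)
            apply Subtype.ext
            rw [← hrootsq _ e.2, ← hrootsq _ e'.2, show root e' e'.2 = root e e.2 * ((root e e.2)⁻¹ * root e' e'.2) by group,
              S.sq_mul hab (hrootN _ e.2) (S.le_nsub h'), S.sq _ h', mul_one]
          · rintro ⟨_, x, hx, rfl⟩
            refine ⟨⟨x * x, hx.1⟩, Subtype.ext ((QuotientGroup.eq).mpr ?_)⟩
            have hd := mul_mem (inv_mem (hrootN _ hx.1)) hx
            refine S.small _ ?_ hd.2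
            rw [S.sq_mul hab (inv_mem (hrootN _ hx.1)) hx, ← mul_inv_rev, hrootsq, inv_mul_cancel]
        sq := by
          rintro _ ⟨x, hx, rfl⟩
          rw [← map_mul]; exact (QuotientGroup.eq_one_iff _).mpr hx.1
        stable := by
          rintro _ ⟨ψ, rfl⟩ _ ⟨x, hx, rfl⟩
          exact Subgroup.mem_map_of_mem π (S.nsub_stable ψ.2 hx)
        mem := ⟨_, rfl⟩
        moved := by
          obtain ⟨e, he, hne⟩ := S.moved
          refine ⟨π (root e he), Subgroup.mem_map_of_mem π (hrootN _ he), fun h => hne ?_⟩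
          have h' : (φ (root e he))⁻¹ * root e he ∈ E := QuotientGroup.eq.mp h
          calc φ e = φ (root e he) * φ (root e he) := by rw [← map_mul, hrootsq]
            _ = root e he * root e he := by
              conv_rhs => rw [show root e he = φ (root e he) * ((φ (root e he))⁻¹ * root e he) by group]
              rw [S.sq_mul hab (S.nsub_stable S.mem (hrootN _ he)) (S.le_nsub h'), S.sq _ h', mul_one]
            _ = e := hrootsq _ he
        small := by
          intro q hq hqg
          obtain ⟨x, rfl⟩ := QuotientGroup.mk'_surjective E q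
          rw [← map_mul] at hq
          refine Subgroup.mem_map_of_mem π (S.mem_nsub_of_inL hab ⟨(QuotientGroup.eq_one_iff _).mp hq, fun g => ?_⟩)
          refine hlift _ ?_
          rw [map_commutatorElement]
          exact hqg (π g) }
    have hlt : Nat.card (Y ⧸ E) < n := by
      have h := Subgroup.card_eq_card_quotient_mul_card_subgroup E
      rw [S.card, hcard] at h
      have : 0 < Nat.card (Y ⧸ E) := Nat.card_pos
      omega
    have hyN := hlift y (ih _ hlt _ _ _ _ S' rfl (π y) (by rw [← map_mul, hy, map_one]))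
    exact S.small y hy hyN.2

namespace Setting

variable {Y : Type u} [Group Y] [Finite Y] {A : Subgroup (MulAut Y)} {E : Subgroup Y} {φ : MulAut Y}

/-- **All involutions are in `E`**. -/
theorem inv_mem (S : Setting Y A E φ) {y : Y} (hy : y * y = 1) : y ∈ E :=
  inv_mem_aux _ Y A E φ S rfl y hy

/-- The three-involution data. -/
theorem threeInv (S : Setting Y A E φ) : ∃ ψ, ThreeInv Y ψ E := by
  obtain ⟨ψ, -, hper, hmove⟩ := S.exists_three_power
  exact ⟨ψ,
    { pgroup := S.pgroup
      card := S.card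
      central := S.central
      inv := fun x => ⟨S.inv_mem, S.sq x⟩
      move := fpf_of_moved S.pgroup fun x hx hfix => hmove x (S.inv_mem hx) hfix
      period := hper }⟩

end Setting

end Cfsg.Agent.NoScnThree
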