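import Cfsg.Agent.Lib.NoScnThree.Count
import Cfsg.Agent.Lib.NoScnThree.Involutions

/-!
The 2-groups `X = [X, A]`, `A` of odd order, without normal self-centralising abelian subgroups
of rank 3.
-/

set_option autoImplicit false
set_option linter.style.haveILetI false
set_option linter.unusedSectionVars false

namespace Cfsg.Agent.NoScnThree

open scoped commutatorElement

variable {X : Type*} [Group X] [Finite X]

/-- Without `SCN₃` there is no normal `E₈`. -/
theorem small_of_scn (hX : IsPGroup 2 X)
    (hscn : ¬ ∃ A : Subgroup X, A.Normal ∧ Subgroup.centralizer (A : Set X) = A ∧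
      ∃ E : Subgroup X, E ≤ A ∧ Cfsg.IsElementaryAbelian 2 E ∧ Nat.card E = 8)
    (V : Subgroup X) (hVn : V.Normal) (hV : Cfsg.IsElementaryAbelian 2 V) : Nat.card V ≤ 4 := by
  classical
  haveI : Fact (Nat.Prime 2) := ⟨Nat.prime_two⟩
  by_contra hlt
  obtain ⟨k, hk⟩ := PGroup.card_eq_pow hX V
  have hk3 : 3 ≤ k := by
    by_contra h
    have : 2 ^ k ≤ 2 ^ 2 := Nat.pow_le_pow_right (by norm_num) (by omega)
    omega
  obtain ⟨E0, hE0⟩ := Sylow.exists_subgroup_card_pow_prime (G := V) 2 (n := 3)
    (by rw [hk]; exact pow_dvd_pow 2 hk3)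
  obtain ⟨B, hB⟩ := (Set.toFinite {B : Subgroup X | B.Normal ∧ IsMulCommutative B ∧ V ≤ B}).exists_maximal
    ⟨V, hVn, hV.1, le_rfl⟩
  obtain ⟨hBn, hBc, hVB⟩ := hB.prop
  haveI := hBn
  refine hscn ⟨B, hBn, ?_, E0.map V.subtype, (Subgroup.map_subtype_le _).trans hVB, ⟨?_, ?_⟩, ?_⟩
  rotate_left
  · refine ⟨⟨fun a b => Subtype.ext ?_⟩⟩
    show (a : X) * b = b * a
    exact congrArg Subtype.val (hV.1.is_comm.comm ⟨a, Subgroup.map_subtype_le _ a.2⟩
      ⟨b, Subgroup.map_subtype_le _ b.2⟩)
  · exact fun a ha => hV.2 a (Subgroup.map_subtype_le _ ha)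
  · rw [Subgroup.card_map_of_injective V.subtype_injective, hE0]; norm_num
  have hBC : B ≤ Subgroup.centralizer (B : Set X) := fun a ha => Subgroup.mem_centralizer_iff.mpr
    fun b hb => congrArg Subtype.val (hBc.is_comm.comm ⟨b, hb⟩ ⟨a, ha⟩)
  refine le_antisymm ?_ hBC
  by_contra hCB
  haveI : ((Subgroup.centralizer (B : Set X)).map (QuotientGroup.mk' B)).Normal :=
    Subgroup.Normal.map inferInstance _ (QuotientGroup.mk'_surjective B)
  obtain ⟨q, ⟨y, hy, rfl⟩, hqc, hq2⟩ := PGroup.exists_orderOf_eq_mem_center (hX.to_quotient B)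
    ((Subgroup.centralizer (B : Set X)).map (QuotientGroup.mk' B))
    (by rw [ne_eq, Subgroup.map_eq_bot_iff, QuotientGroup.ker_mk']; exact hCB)
  set B' := Subgroup.closure ((B : Set X) ∪ {y}) with hB'
  have hB'c : IsMulCommutative B' := by
    refine Subgroup.isMulCommutative_closure ?_
    rintro g (hg | rfl) h (hh | rfl)
    · exact congrArg Subtype.val (hBc.is_comm.comm ⟨g, hg⟩ ⟨h, hh⟩)
    · exact Subgroup.mem_centralizer_iff.mp hy g hg
    · exact (Subgroup.mem_centralizer_iff.mp hy h hh).symm
    · rfl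
  have hle : B ≤ B' := fun b hb => Subgroup.subset_closure (Or.inl hb)
  have hB'n : B'.Normal := by
    refine ⟨fun n hn g => ?_⟩
    have : B'.map (MulAut.conj g).toMonoidHom ≤ B' := by
      rw [hB', MonoidHom.map_closure, Subgroup.closure_le]
      rintro _ ⟨u, hu | hu, rfl⟩
      · exact Subgroup.subset_closure (Or.inl (hBn.conj_mem u hu g))
      · rw [Set.mem_singleton_iff] at hu
        subst hu
        have h1 : ⁅g, u⁆ ∈ B := by
          refine (QuotientGroup.eq_one_iff _).mp ?_
          rw [← QuotientGroup.mk'_apply, map_commutatorElement, commutatorElement_eq_one_iff_mul_comm]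
          exact Subgroup.mem_center_iff.mp hqc _
        show g * u * g⁻¹ ∈ B'
        rw [show g * u * g⁻¹ = ⁅g, u⁆ * u by rw [commutatorElement_def]; group]
        exact mul_mem (hle h1) (Subgroup.subset_closure (Or.inr rfl))
    simpa using this (Subgroup.mem_map_of_mem _ hn)
  have heq : B' ≤ B := hB.le_of_ge ⟨hB'n, hB'c, hVB.trans hle⟩ hle
  rw [QuotientGroup.mk'_apply, (QuotientGroup.eq_one_iff _).mpr (heq (Subgroup.subset_closure (Or.inr rfl))),
    orderOf_one] at hq2
  omega

theorem main (hX : IsPGroup 2 X) (hna : ¬ IsMulCommutative X)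
    (hscn : ¬ ∃ A : Subgroup X, A.Normal ∧ Subgroup.centralizer (A : Set X) = A ∧
      ∃ E : Subgroup X, E ≤ A ∧ Cfsg.IsElementaryAbelian 2 E ∧ Nat.card E = 8)
    (A : Subgroup (MulAut X)) (hA : Odd (Nat.card A))
    (hXA : Subgroup.closure {g : X | ∃ φ ∈ A, ∃ x : X, g = x⁻¹ * φ x} = ⊤) :
    Nonempty (X ≃* QuaternionGroup 2) ∨
      (Cfsg.IsSpecial 2 X ∧ Nat.card X = 64 ∧ Nat.card {x : X // orderOf x = 2} = 3 ∧
        ∀ x : X, orderOf x = 2 → x ∈ Subgroup.center X) ∨
      (Cfsg.IsExtraspecial 2 X ∧ Nat.card X = 32 ∧ Nat.card {x : X // orderOf x = 2} = 11) := by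
  classical
  haveI : Fact (Nat.Prime 2) := ⟨Nat.prime_two⟩
  have S : Base X A := ⟨hX, hA, hXA, small_of_scn hX hscn⟩
  by_cases hfix : ∀ φ ∈ A, ∀ z ∈ Subgroup.center X, z * z = 1 → φ z = z
  · have P := S.spec hfix
    haveI : Nontrivial X := by
      by_contra hn
      haveI : Subsingleton X := not_nontrivial_iff_subsingleton.mp hn
      exact hna ⟨⟨fun a b => Subsingleton.elim _ _⟩⟩
    have hgt : 1 < Nat.card (Subgroup.center X) :=
      Finite.one_lt_card_iff_nontrivial.mpr hX.center_nontrivial
    obtain ⟨k, hk⟩ := PGroup.card_eq_pow hX (Subgroup.center X)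
    have hle := P.card_center
    rw [hk] at hgt hle
    have hk2 : k ≤ 2 := (Nat.pow_le_pow_iff_right (show 1 < 2 by norm_num)).mp (hle.trans (by norm_num))
    interval_cases k
    · omega
    · rcases order_two_case hna S P (by rw [hk]; norm_num) with h | h
      exacts [Or.inl h, Or.inr (Or.inr h)]
    · obtain ⟨h1, h2, h3⟩ := order_four_case S P (by rw [hk]; norm_num)
      exact Or.inr (Or.inl ⟨P.special, h1, h2, h3⟩)
  push Not at hfix
  obtain ⟨φ, hφ, a, haZ, haa, hne⟩ := hfix
  haveI hZc : IsMulCommutative (Subgroup.center X) :=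
    ⟨⟨fun a b => Subtype.ext (Subgroup.mem_center_iff.mp b.2 a)⟩⟩
  haveI := omegaOne_normal (Subgroup.center X)
  set E := omegaOne (Subgroup.center X) with hE
  have hEc : E ≤ Subgroup.center X := fun e he => he.1
  have hzst : ∀ ψ : MulAut X, ∀ b ∈ Subgroup.center X, ψ b ∈ Subgroup.center X := fun ψ b hb =>
    Subgroup.characteristic_iff_map_le.mp inferInstance ψ (Subgroup.mem_map_of_mem _ hb)
  have hEst : ∀ ψ ∈ A, ∀ e ∈ E, ψ e ∈ E := fun ψ _ e he =>
    ⟨hzst ψ e he.1, by rw [← map_mul, he.2, map_one]⟩
  have haE : a ∈ E := ⟨haZ, haa⟩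
  have hEcard : Nat.card E = 4 := by
    have hle := S.small E inferInstance (omegaOne_elementary _)
    obtain ⟨k, hk⟩ := PGroup.card_eq_pow hX E
    have h1 : a ≠ 1 := fun e => hne (by rw [e, map_one])
    have hb : φ a ∈ E := hEst φ hφ a haE
    have hb1 : φ a ≠ 1 := fun e => h1 ((map_eq_one_iff φ φ.injective).mp e)
    haveI : Fintype X := Fintype.ofFinite X
    have h3 : ({1, a, φ a} : Finset X).card ≤ Nat.card E := by
      rw [show Nat.card E = (E : Set X).toFinset.card by rw [Set.toFinset_card, Fintype.card_eq_nat_card]; rfl]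
      refine Finset.card_le_card fun u hu => ?_
      simp only [Finset.mem_insert, Finset.mem_singleton] at hu
      rcases hu with rfl | rfl | rfl <;> simp [haE, hb]
    rw [Finset.card_insert_of_notMem (by simp [Ne.symm h1, Ne.symm hb1]), Finset.card_pair (Ne.symm hne)] at h3
    rw [hk] at h3 hle ⊢
    have hk2 : k ≤ 2 := (Nat.pow_le_pow_iff_right (show 1 < 2 by norm_num)).mp (hle.trans (by norm_num))
    interval_cases k <;> omega
  have T : Setting X A E φ :=
    { pgroup := hX
      odd := hA
      gen := hXA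
      central := hEc
      card := hEcard
      sq := fun e he => he.2
      stable := hEst
      mem := hφ
      moved := ⟨a, haE, hne⟩
      small := fun y hy hyg => by
        by_contra hyE
        set V := Subgroup.closure ((E : Set X) ∪ {y}) with hV
        haveI hVc : IsMulCommutative V := by
          refine Subgroup.isMulCommutative_closure ?_
          rintro g (hg | rfl) h (hh | rfl)
          · exact Subgroup.mem_center_iff.mp hh.1 g
          · exact (Subgroup.mem_center_iff.mp hg.1 h).symm
          · exact Subgroup.mem_center_iff.mp hh.1 g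
          · rfl
        have hle : E ≤ V := fun e he => Subgroup.subset_closure (Or.inl he)
        have hVn : V.Normal := by
          refine ⟨fun n hn g => ?_⟩
          have : V.map (MulAut.conj g).toMonoidHom ≤ V := by
            rw [hV, MonoidHom.map_closure, Subgroup.closure_le]
            rintro _ ⟨u, hu | hu, rfl⟩
            · show g * u * g⁻¹ ∈ V
              rw [Subgroup.mem_center_iff.mp hu.1 g, mul_inv_cancel_right]
              exact hle hu
            · rw [Set.mem_singleton_iff] at hu
              subst hu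
              show g * u * g⁻¹ ∈ V
              rw [show g * u * g⁻¹ = ⁅u, g⁆⁻¹ * u by rw [commutatorElement_def]; group]
              exact mul_mem (inv_mem (hle (hyg g))) (Subgroup.subset_closure (Or.inr rfl))
          simpa using this (Subgroup.mem_map_of_mem _ hn)
        have hVe : Cfsg.IsElementaryAbelian 2 V := by
          refine ⟨hVc, fun u hu => ?_⟩
          have hsub : V ≤ omegaOne V := by
            refine (Subgroup.closure_le (omegaOne V)).mpr ?_
            intro g hg
            refine ⟨Subgroup.subset_closure hg, ?_⟩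
            rcases hg with hg | hg
            · exact hg.2
            · rw [Set.mem_singleton_iff] at hg; rw [hg, hy]
          rw [pow_two]; exact (hsub hu).2
        have hlt : E < V := lt_of_le_of_ne hle fun e => hyE (e ▸ Subgroup.subset_closure (Or.inr rfl))
        have := PGroup.mul_card_le_card hX hlt
        have := S.small V hVn hVe
        omega }
  obtain ⟨ψ, hT⟩ := T.threeInv
  rcases hT.structure_theorem with ⟨n, -, ⟨e⟩⟩ | ⟨hF, hinv⟩
  · exact absurd ⟨⟨fun u v => e.injective (by rw [map_mul, map_mul, mul_comm])⟩⟩ hna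
  have hcc : commutator X ≤ Subgroup.center X := by
    rw [commutator_def, Subgroup.commutator_le]
    exact fun u _ v _ => hF.comm_mem_center u v
  have hceq : commutator X = Subgroup.center X := by
    refine Subgroup.eq_of_le_of_card_ge hcc ?_
    have hmod : Nat.card (commutator X) % 3 = 1 := SylL34.card_mod_three hF.three hF.fpf _ fun u hu =>
      Subgroup.characteristic_iff_map_le.mp (inferInstanceAs (commutator X).Characteristic) ψ
        (Subgroup.mem_map_of_mem _ hu)
    have hd := Subgroup.card_dvd_of_le hcc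
    rw [hF.card_center] at hd ⊢
    have hne1 : Nat.card (commutator X) ≠ 1 := fun e => by
      rw [Subgroup.card_eq_one] at e
      obtain ⟨u, v, huv⟩ := exists_comm hna
      refine huv ?_
      have : ⁅u, v⁆ ∈ commutator X := Subgroup.commutator_mem_commutator (Subgroup.mem_top u) (Subgroup.mem_top v)
      rw [e] at this
      exact this
    have hle4 := Nat.le_of_dvd (by norm_num) hd
    omega
  have hsp : Cfsg.IsSpecial 2 X := by
    refine ⟨hX, le_antisymm (PGroup.frattini_le (p := 2) hceq.le fun x => by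
      rw [pow_two]; exact hF.sq_mem_center x) ?_, hceq⟩
    rw [← hceq]
    exact PGroup.commutator_le_frattini hX
  refine Or.inr (Or.inl ⟨hsp, hF.card, ?_, fun x hx => hinv x (by rw [← pow_two, ← hx, pow_orderOf_eq_one])⟩)
  haveI : Fintype X := Fintype.ofFinite X
  have hord : ∀ x : X, orderOf x = 2 ↔ x ∈ E ∧ x ≠ 1 := fun x => by
    constructor
    · intro h
      exact ⟨T.inv_mem (by rw [← pow_two, ← h, pow_orderOf_eq_one]), fun e => by rw [e, orderOf_one] at h; omega⟩
    · rintro ⟨h, h1⟩
      exact orderOf_eq_prime (by rw [pow_two]; exact h.2) h1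
  rw [Nat.card_eq_fintype_card, Fintype.card_subtype,
    show Finset.univ.filter (fun x : X => orderOf x = 2) = (E : Set X).toFinset.erase 1 by
      ext x; simp [hord, and_comm],
    Finset.card_erase_of_mem (by simp), Set.toFinset_card, Fintype.card_eq_nat_card]
  show Nat.card E - 1 = 3
  omega

end Cfsg.Agent.NoScnThree
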