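import Cfsg.Agent.Lib.HigmanRankTwo.Structure

/-!
A 2-group `Y = [Y, A]` (`A` of odd order) with a central four-group `E` moved by `A`, such that
every involution which is central modulo `E` lies in `E`.
-/

set_option autoImplicit false
set_option linter.style.haveILetI false
set_option linter.unusedSectionVars false

namespace Cfsg.Agent.NoScnThree

open scoped commutatorElement

variable {Y : Type*} [Group Y]

theorem pow_card_apply [Finite Y] {A : Subgroup (MulAut Y)} {ψ : MulAut Y} (hψ : ψ ∈ A) :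
    ψ ^ Nat.card A = 1 :=
  congrArg Subtype.val (pow_card_eq_one' (x := (⟨ψ, hψ⟩ : A)))

/-- An element of odd order cannot swap two points. -/
theorem fix_of_sq_fix [Finite Y] {A : Subgroup (MulAut Y)} (hA : Odd (Nat.card A)) {ψ : MulAut Y}
    (hψ : ψ ∈ A) {a : Y} (h : ψ (ψ a) = a) : ψ a = a := by
  have heven : ∀ m : ℕ, (ψ ^ (2 * m)) a = a := fun m => by
    induction m with
    | zero => rfl
    | succ m ih => rw [Nat.mul_succ, pow_add, MulAut.mul_apply, pow_two, MulAut.mul_apply, h, ih]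
  obtain ⟨m, hm⟩ := hA
  have h1 := congrArg (fun χ : MulAut Y => χ a) (pow_card_apply hψ)
  simp only [hm, pow_succ', MulAut.mul_apply, heven, MulAut.one_apply] at h1
  exact h1

/-- A homomorphism not seeing `A` is trivial. -/
theorem hom_eq_one {A : Subgroup (MulAut Y)}
    (hgen : Subgroup.closure {g : Y | ∃ φ ∈ A, ∃ x : Y, g = x⁻¹ * φ x} = ⊤) {H : Type*} [Group H]
    (f : Y →* H) (hf : ∀ φ ∈ A, ∀ x, f (φ x) = f x) (y : Y) : f y = 1 := by
  have h : (⊤ : Subgroup Y) ≤ f.ker := by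
    rw [← hgen, Subgroup.closure_le]
    rintro _ ⟨φ, hφ, x, rfl⟩
    simp [MonoidHom.mem_ker, hf φ hφ x]
  exact h (Subgroup.mem_top y)

/-- A normal subgroup fixed pointwise is central. -/
theorem le_center_of_fixed {A : Subgroup (MulAut Y)}
    (hgen : Subgroup.closure {g : Y | ∃ φ ∈ A, ∃ x : Y, g = x⁻¹ * φ x} = ⊤) (B : Subgroup Y) [B.Normal]
    (hB : ∀ φ ∈ A, ∀ b ∈ B, φ b = b) : B ≤ Subgroup.center Y := by
  intro b hb
  have h : (⊤ : Subgroup Y) ≤ Subgroup.centralizer {b} := by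
    rw [← hgen, Subgroup.closure_le]
    rintro _ ⟨φ, hφ, x, rfl⟩
    rw [SetLike.mem_coe, Subgroup.mem_centralizer_singleton_iff]
    have h1 := hB φ hφ _ (Subgroup.Normal.conj_mem inferInstance b hb x)
    rw [map_mul, map_mul, map_inv, hB φ hφ b hb] at h1
    calc x⁻¹ * φ x * b = x⁻¹ * (φ x * b * (φ x)⁻¹) * φ x := by group
      _ = x⁻¹ * (x * b * x⁻¹) * φ x := by rw [h1]
      _ = b * (x⁻¹ * φ x) := by group
  exact Subgroup.mem_center_iff.mpr fun g =>
    Subgroup.mem_centralizer_singleton_iff.mp (h (Subgroup.mem_top g))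

/-- The hypotheses. -/
structure Setting (Y : Type*) [Group Y] (A : Subgroup (MulAut Y)) (E : Subgroup Y) (φ : MulAut Y) :
    Prop where
  pgroup : IsPGroup 2 Y
  odd : Odd (Nat.card A)
  gen : Subgroup.closure {g : Y | ∃ φ ∈ A, ∃ x : Y, g = x⁻¹ * φ x} = ⊤
  central : E ≤ Subgroup.center Y
  card : Nat.card E = 4
  sq : ∀ e ∈ E, e * e = 1
  stable : ∀ ψ ∈ A, ∀ e ∈ E, ψ e ∈ E
  mem : φ ∈ A
  moved : ∃ e ∈ E, φ e ≠ e
  small : ∀ y : Y, y * y = 1 → (∀ g, ⁅y, g⁆ ∈ E) → y ∈ E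

namespace Setting

variable [Finite Y] {A : Subgroup (MulAut Y)} {E : Subgroup Y} {φ : MulAut Y} (S : Setting Y A E φ)
include S

theorem z {e : Y} (he : e ∈ E) (g : Y) : g * e = e * g := Subgroup.mem_center_iff.mp (S.central he) g

theorem four {a b : Y} (ha : a ∈ E) (hb : b ∈ E) (ha1 : a ≠ 1) (hb1 : b ≠ 1) (hab : a ≠ b) :
    ∀ w ∈ E, w = 1 ∨ w = a ∨ w = b ∨ w = a * b := by
  classical
  haveI : Fintype Y := Fintype.ofFinite Y
  intro w hw
  have h1 : a * b ≠ 1 := fun e => hab (by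
    have := eq_inv_of_mul_eq_one_left e
    rwa [inv_eq_of_mul_eq_one_right (S.sq b hb)] at this)
  have h4 : ({1, a, b, a * b} : Finset Y).card = 4 := by
    rw [Finset.card_insert_of_notMem, Finset.card_insert_of_notMem,
      Finset.card_insert_of_notMem, Finset.card_singleton] <;> simp [*, Ne.symm]
  have hsub : ({1, a, b, a * b} : Finset Y) = (E : Set Y).toFinset := by
    refine Finset.eq_of_subset_of_card_le ?_ ?_
    · intro x hx
      simp only [Finset.mem_insert, Finset.mem_singleton] at hx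
      simp only [Set.mem_toFinset, SetLike.mem_coe]
      rcases hx with rfl | rfl | rfl | rfl
      exacts [one_mem _, ha, hb, mul_mem ha hb]
    · rw [Set.toFinset_card, h4, Fintype.card_eq_nat_card]
      exact le_of_eq S.card
  have hw' : w ∈ ({1, a, b, a * b} : Finset Y) := by rw [hsub]; simpa using hw
  simpa using hw'

theorem phi_ne {a : Y} (ha : a ∈ E) (h1 : a ≠ 1) : φ a ≠ a := by
  intro hfix
  obtain ⟨f, hf, hne⟩ := S.moved
  have hf1 : f ≠ 1 := fun e => hne (by rw [e, map_one])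
  have hfa : f ≠ a := fun e => hne (by rw [e, hfix])
  have hφf : φ f ≠ 1 := fun e => hf1 ((map_eq_one_iff φ φ.injective).mp e)
  rcases S.four ha hf h1 hf1 hfa.symm _ (S.stable φ S.mem f hf) with e | e | e | e
  · exact hφf e
  · exact hfa (φ.injective (e.trans hfix.symm))
  · exact hne e
  · refine hne (fix_of_sq_fix S.odd S.mem ?_)
    rw [e, map_mul, hfix, e, ← mul_assoc, S.sq a ha, one_mul]

theorem orbit {a : Y} (ha : a ∈ E) (h1 : a ≠ 1) :
    φ (φ a) = a * φ a ∧ φ (φ (φ a)) = a ∧ φ (φ a) ≠ a ∧ φ (φ a) ≠ φ a := by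
  have hb := S.stable φ S.mem a ha
  have hc := S.stable φ S.mem _ hb
  have hb1 : φ a ≠ 1 := fun e => h1 ((map_eq_one_iff φ φ.injective).mp e)
  have hne := S.phi_ne ha h1
  have hcb : φ (φ a) ≠ φ a := fun e => hne (φ.injective e)
  have hca : φ (φ a) ≠ a := fun e => hne (fix_of_sq_fix S.odd S.mem e)
  have hc1 : φ (φ a) ≠ 1 := fun e => hb1 ((map_eq_one_iff φ φ.injective).mp e)
  have he : φ (φ a) = a * φ a := by
    rcases S.four ha hb h1 hb1 (Ne.symm hne) _ hc with e | e | e | e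
    exacts [absurd e hc1, absurd e hca, absurd e hcb, e]
  refine ⟨he, ?_, hca, hcb⟩
  calc φ (φ (φ a)) = φ a * φ (φ a) := by rw [← map_mul, ← he]
    _ = φ a * (φ a * a) := by rw [he, S.z hb a]
    _ = a := by rw [← mul_assoc, S.sq _ hb, one_mul]

theorem cube {w : Y} (hw : w ∈ E) : φ (φ (φ w)) = w := by
  by_cases h1 : w = 1
  · simp [h1]
  exact (S.orbit hw h1).2.1

/-- An element of `A` fixing a nontrivial element of `E` fixes `E`. -/
theorem fix_all {ψ : MulAut Y} (hψ : ψ ∈ A) {a : Y} (ha : a ∈ E) (h1 : a ≠ 1) (hfix : ψ a = a) :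
    ∀ w ∈ E, ψ w = w := by
  intro w hw
  by_cases hw1 : w = 1
  · simp [hw1]
  by_cases hwa : w = a
  · rw [hwa, hfix]
  rcases S.four ha hw h1 hw1 (Ne.symm hwa) _ (S.stable ψ hψ w hw) with e | e | e | e
  · exact absurd ((map_eq_one_iff ψ ψ.injective).mp e) hw1
  · exact absurd (ψ.injective (e.trans hfix.symm)) hwa
  · exact e
  · refine fix_of_sq_fix S.odd hψ ?_
    rw [e, map_mul, hfix, e, ← mul_assoc, S.sq a ha, one_mul]

/-- `A` acts on `E` through `1, φ, φ²`. -/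
theorem agree {ψ : MulAut Y} (hψ : ψ ∈ A) :
    (∀ w ∈ E, ψ w = w) ∨ (∀ w ∈ E, ψ w = φ w) ∨ (∀ w ∈ E, ψ w = φ (φ w)) := by
  obtain ⟨f, hf, hne⟩ := S.moved
  have hf1 : f ≠ 1 := fun e => hne (by rw [e, map_one])
  have hb := S.stable φ S.mem f hf
  have hb1 : φ f ≠ 1 := fun e => hf1 ((map_eq_one_iff φ φ.injective).mp e)
  rcases S.four hf hb hf1 hb1 (Ne.symm hne) _ (S.stable ψ hψ f hf) with e | e | e | e
  · exact absurd ((map_eq_one_iff ψ ψ.injective).mp e) hf1
  · exact Or.inl (S.fix_all hψ hf hf1 e)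
  · refine Or.inr (Or.inl fun w hw => ?_)
    have := S.fix_all (ψ := φ⁻¹ * ψ) (mul_mem (inv_mem S.mem) hψ) hf hf1
      (by rw [MulAut.mul_apply, e, MulAut.inv_apply_self]) w hw
    rw [MulAut.mul_apply] at this
    have h2 := congrArg φ this
    rwa [MulAut.apply_inv_self] at h2
  · refine Or.inr (Or.inr fun w hw => ?_)
    rw [← (S.orbit hf hf1).1] at e
    have := S.fix_all (ψ := φ⁻¹ * (φ⁻¹ * ψ)) (mul_mem (inv_mem S.mem) (mul_mem (inv_mem S.mem) hψ)) hf hf1
      (by rw [MulAut.mul_apply, MulAut.mul_apply, e, MulAut.inv_apply_self, MulAut.inv_apply_self]) w hw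
    rw [MulAut.mul_apply, MulAut.mul_apply] at this
    have h2 := congrArg φ (congrArg φ this)
    rwa [MulAut.apply_inv_self, MulAut.apply_inv_self] at h2

/-- The involutions modulo `E` which are central modulo `E`. -/
def nsub : Subgroup Y where
  carrier := {n | n * n ∈ E ∧ ∀ g, ⁅n, g⁆ ∈ E}
  one_mem' := ⟨by simp, fun g => by simp⟩
  mul_mem' := by
    rintro a b ⟨ha, ha'⟩ ⟨hb, hb'⟩
    refine ⟨?_, fun g => ?_⟩
    · have hc : ⁅b, a⁆ ∈ E := hb' a
      have h : a * b * (a * b) = a * ⁅b, a⁆ * a * (b * b) := by rw [commutatorElement_def]; group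
      rw [h, S.z hc a, mul_assoc ⁅b, a⁆ a a]
      exact mul_mem (mul_mem hc ha) hb
    · have h : ⁅a * b, g⁆ = a * ⁅b, g⁆ * a⁻¹ * ⁅a, g⁆ := by simp only [commutatorElement_def]; group
      rw [h, S.z (hb' g) a, mul_inv_cancel_right]
      exact mul_mem (hb' g) (ha' g)
  inv_mem' := by
    rintro a ⟨ha, ha'⟩
    refine ⟨?_, fun g => ?_⟩
    · rw [← mul_inv_rev]; exact inv_mem ha
    · have h : ⁅a⁻¹, g⁆ = a⁻¹ * ⁅a, g⁆⁻¹ * a := by simp only [commutatorElement_def]; group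
      rw [h, S.z (inv_mem (ha' g)) a⁻¹, inv_mul_cancel_right]
      exact inv_mem (ha' g)

theorem le_nsub : E ≤ S.nsub := fun e he => ⟨by rw [S.sq e he]; exact one_mem _, fun g => by
  rw [commutatorElement_eq_one_iff_mul_comm.mpr (S.z he g).symm]; exact one_mem _⟩

theorem nsub_stable {ψ : MulAut Y} (hψ : ψ ∈ A) {n : Y} (hn : n ∈ S.nsub) : ψ n ∈ S.nsub := by
  refine ⟨?_, fun g => ?_⟩
  · rw [← map_mul]; exact S.stable ψ hψ _ hn.1
  · rw [show g = ψ (ψ⁻¹ g) from (MulAut.apply_inv_self Y ψ g).symm, ← map_commutatorElement]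
    exact S.stable ψ hψ _ (hn.2 _)

theorem nsub_normal : (S.nsub).Normal where
  conj_mem n hn g := by
    have h : g * n * g⁻¹ = ⁅n, g⁆⁻¹ * n := by rw [commutatorElement_def]; group
    rw [h]
    exact mul_mem (S.le_nsub (inv_mem (hn.2 g))) hn

theorem comm_right {n : Y} (hn : n ∈ S.nsub) (g : Y) : ⁅g, n⁆ ∈ E := by
  rw [← commutatorElement_inv]; exact inv_mem (hn.2 g)

theorem delta_mul_left {n : Y} (hn : n ∈ S.nsub) (g h : Y) : ⁅g * h, n⁆ = ⁅g, n⁆ * ⁅h, n⁆ := by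
  have e : ⁅g * h, n⁆ = g * ⁅h, n⁆ * g⁻¹ * ⁅g, n⁆ := by simp only [commutatorElement_def]; group
  rw [e, S.z (S.comm_right hn h) g, mul_inv_cancel_right, S.z (S.comm_right hn g)]

theorem delta_mul_right {n m : Y} (hm : m ∈ S.nsub) (g : Y) :
    ⁅g, n * m⁆ = ⁅g, n⁆ * ⁅g, m⁆ := by
  have e : ⁅g, n * m⁆ = ⁅g, n⁆ * (n * ⁅g, m⁆ * n⁻¹) := by simp only [commutatorElement_def]; group
  rw [e, S.z (S.comm_right hm g) n, mul_inv_cancel_right]

/-- On an abelian `nsub` a commutator with `n` only depends on `n²`. -/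
theorem delta_congr (hab : ∀ a ∈ S.nsub, ∀ b ∈ S.nsub, a * b = b * a) {n n' : Y} (hn : n ∈ S.nsub)
    (hn' : n' ∈ S.nsub) (h : n * n = n' * n') (g : Y) : ⁅g, n⁆ = ⁅g, n'⁆ := by
  have hd : n⁻¹ * n' ∈ S.nsub := mul_mem (inv_mem hn) hn'
  have hsq : n⁻¹ * n' * (n⁻¹ * n') = 1 := by
    calc n⁻¹ * n' * (n⁻¹ * n') = n⁻¹ * (n' * n⁻¹) * n' := by group
      _ = n⁻¹ * (n⁻¹ * n') * n' := by rw [hab _ hn' _ (inv_mem hn)]
      _ = (n * n)⁻¹ * (n' * n') := by group
      _ = 1 := by rw [h, inv_mul_cancel]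
  have hE : n⁻¹ * n' ∈ E := S.small _ hsq hd.2
  rw [show n' = n * (n⁻¹ * n') by group, S.delta_mul_right hd g,
    commutatorElement_eq_one_iff_mul_comm.mpr (S.z hE g), mul_one]

end Setting

end Cfsg.Agent.NoScnThree
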