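import Cfsg.Agent.Lib.NoScnThree.Setting
import Cfsg.Agent.Lib.PGroup.Frattini
import Cfsg.Prelude.Def_Transfer

/-!
`X = [X, A]` with `A` of odd order centralising the central involutions and no normal `E₈`:
then `X` is special with centre of order at most 4.
-/

set_option autoImplicit false
set_option linter.style.haveILetI false
set_option linter.unusedSectionVars false

namespace Cfsg.Agent.NoScnThree

open scoped commutatorElement

variable {X : Type*} [Group X]

/-- The standing hypotheses. -/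
structure Base (X : Type*) [Group X] (A : Subgroup (MulAut X)) : Prop where
  pgroup : IsPGroup 2 X
  odd : Odd (Nat.card A)
  gen : Subgroup.closure {g : X | ∃ φ ∈ A, ∃ x : X, g = x⁻¹ * φ x} = ⊤
  small : ∀ V : Subgroup X, V.Normal → Cfsg.IsElementaryAbelian 2 V → Nat.card V ≤ 4

/-- The involutions of an abelian subgroup, with the identity. -/
def omegaOne (B : Subgroup X) [hB : IsMulCommutative B] : Subgroup X where
  carrier := {b | b ∈ B ∧ b * b = 1}
  one_mem' := ⟨one_mem _, one_mul 1⟩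
  mul_mem' := fun {a b} ha hb => ⟨mul_mem ha.1 hb.1, by
    have hc : b * a = a * b := congrArg Subtype.val (hB.is_comm.comm ⟨b, hb.1⟩ ⟨a, ha.1⟩)
    calc a * b * (a * b) = a * (b * a) * b := by group
      _ = a * a * (b * b) := by rw [hc]; group
      _ = 1 := by rw [ha.2, hb.2, one_mul]⟩
  inv_mem' := fun {a} ha => ⟨inv_mem ha.1, by rw [← mul_inv_rev, ha.2, inv_one]⟩

theorem omegaOne_normal (B : Subgroup X) [IsMulCommutative B] [B.Normal] : (omegaOne B).Normal where
  conj_mem n hn g := ⟨Subgroup.Normal.conj_mem inferInstance n hn.1 g, by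
    rw [show g * n * g⁻¹ * (g * n * g⁻¹) = g * (n * n) * g⁻¹ by group, hn.2, mul_one, mul_inv_cancel]⟩

theorem omegaOne_elementary (B : Subgroup X) [hB : IsMulCommutative B] :
    Cfsg.IsElementaryAbelian 2 (omegaOne B) :=
  ⟨⟨⟨fun a b => Subtype.ext
    (show (a : X) * b = b * a from congrArg Subtype.val (hB.is_comm.comm ⟨a, a.2.1⟩ ⟨b, b.2.1⟩))⟩⟩,
    fun a ha => by rw [pow_two]; exact ha.2⟩

/-- An automorphism of odd order fixing the involutions of an abelian subgroup fixes it. -/
theorem fix_of_fix_omega [Finite X] (hX : IsPGroup 2 X) {A : Subgroup (MulAut X)} (hA : Odd (Nat.card A))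
    {φ : MulAut X} (hφ : φ ∈ A) (B : Subgroup X) [hB : IsMulCommutative B] (hst : ∀ b ∈ B, φ b ∈ B)
    (h : ∀ b ∈ omegaOne B, φ b = b) : ∀ b ∈ B, φ b = b := by
  intro b hb
  obtain ⟨k, hk⟩ := hX b
  induction k generalizing b with
  | zero => simp only [pow_zero, pow_one] at hk; simp [hk]
  | succ k ih =>
    have hsq : φ (b * b) = b * b := ih _ (mul_mem hb hb) (by rw [← pow_two, ← pow_mul, ← pow_succ', hk])
    set d := b⁻¹ * φ b with hd
    have hdB : d ∈ B := mul_mem (inv_mem hb) (hst b hb)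
    have hc : b * φ b = φ b * b := congrArg Subtype.val (hB.is_comm.comm ⟨b, hb⟩ ⟨_, hst b hb⟩)
    have hdd : d * d = 1 := by
      calc d * d = b⁻¹ * (φ b * b⁻¹) * φ b := by rw [hd]; group
        _ = b⁻¹ * (b⁻¹ * φ b) * φ b := by rw [show φ b * b⁻¹ = b⁻¹ * φ b from
            ((show Commute b (φ b) from hc).inv_left.eq).symm]
        _ = (b * b)⁻¹ * φ (b * b) := by rw [map_mul]; group
        _ = 1 := by rw [hsq, inv_mul_cancel]
    have hdf : φ d = d := h d ⟨hdB, hdd⟩
    refine fix_of_sq_fix hA hφ ?_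
    calc φ (φ b) = φ (b * d) := by rw [hd, mul_inv_cancel_left]
      _ = φ b * d := by rw [map_mul, hdf]
      _ = b * (d * d) := by rw [hd]; group
      _ = b := by rw [hdd, mul_one]

/-- The special conclusion. -/
structure Spec (X : Type*) [Group X] (A : Subgroup (MulAut X)) : Prop where
  comm : ∀ a b : X, ⁅a, b⁆ ∈ Subgroup.center X
  sq : ∀ x : X, x * x ∈ Subgroup.center X
  center_sq : ∀ z ∈ Subgroup.center X, z * z = 1
  fixed : ∀ φ ∈ A, ∀ z ∈ Subgroup.center X, φ z = z
  card_center : Nat.card (Subgroup.center X) ≤ 4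
  special : Cfsg.IsSpecial 2 X

namespace Base

variable [Finite X] {A : Subgroup (MulAut X)} (S : Base X A)
include S

theorem fixed_of_abelian (hfix : ∀ φ ∈ A, ∀ z ∈ Subgroup.center X, z * z = 1 → φ z = z)
    (B : Subgroup X) [hBn : B.Normal] [hB : IsMulCommutative B] (hst : ∀ φ ∈ A, ∀ b ∈ B, φ b ∈ B) :
    B ≤ Subgroup.center X := by
  classical
  haveI : Fact (Nat.Prime 2) := ⟨Nat.prime_two⟩
  haveI := omegaOne_normal B
  refine le_center_of_fixed S.gen B fun φ hφ =>
    fix_of_fix_omega S.pgroup S.odd hφ B (hst φ hφ) fun a ha => ?_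
  by_cases hac : a ∈ Subgroup.center X
  · exact hfix φ hφ a hac ha.2
  have hne : omegaOne B ≠ ⊥ := fun h => hac (by
    rw [h, Subgroup.mem_bot] at ha
    rw [ha]; exact one_mem _)
  obtain ⟨z, hz, hzc, hz2⟩ := PGroup.exists_orderOf_eq_mem_center S.pgroup _ hne
  have hz1 : z ≠ 1 := fun h => by rw [h, orderOf_one] at hz2; omega
  have hzz : z * z = 1 := hz.2
  have hza : a * z = z * a := Subgroup.mem_center_iff.mp hzc a
  have hfz := hfix φ hφ z hzc hzz
  have ha1 : a ≠ 1 := fun h => hac (h ▸ one_mem _)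
  have haz : a ≠ z := fun h => hac (h ▸ hzc)
  haveI : Fintype X := Fintype.ofFinite X
  have h1 : z * a ≠ 1 := fun e => haz (by
    rw [eq_inv_of_mul_eq_one_right e]
    exact inv_eq_of_mul_eq_one_right hzz)
  have h4 : ({1, z, a, z * a} : Finset X).card = 4 := by
    rw [Finset.card_insert_of_notMem, Finset.card_insert_of_notMem,
      Finset.card_insert_of_notMem, Finset.card_singleton] <;> simp [*, Ne.symm]
  have hsub : ({1, z, a, z * a} : Finset X) = (omegaOne B : Set X).toFinset := by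
    refine Finset.eq_of_subset_of_card_le ?_ ?_
    · intro x hx
      simp only [Finset.mem_insert, Finset.mem_singleton] at hx
      simp only [Set.mem_toFinset, SetLike.mem_coe]
      rcases hx with rfl | rfl | rfl | rfl
      exacts [one_mem _, hz, ha, mul_mem hz ha]
    · rw [Set.toFinset_card, h4, Fintype.card_eq_nat_card]
      exact S.small _ inferInstance (omegaOne_elementary B)
  have hmem : φ a ∈ ({1, z, a, z * a} : Finset X) := by
    rw [hsub, Set.mem_toFinset]
    exact ⟨hst φ hφ a ha.1, by rw [← map_mul, ha.2, map_one]⟩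
  simp only [Finset.mem_insert, Finset.mem_singleton] at hmem
  rcases hmem with e | e | e | e
  · exact absurd ((map_eq_one_iff φ φ.injective).mp e) ha1
  · exact absurd (φ.injective (e.trans hfz.symm)) haz
  · exact e
  · refine fix_of_sq_fix S.odd hφ ?_
    rw [e, map_mul, hfz, e, ← mul_assoc, hzz, one_mul]

theorem spec (hfix : ∀ φ ∈ A, ∀ z ∈ Subgroup.center X, z * z = 1 → φ z = z) : Spec X A := by
  classical
  haveI : Fact (Nat.Prime 2) := ⟨Nat.prime_two⟩
  set Z := Subgroup.center X with hZdef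
  haveI hZc : IsMulCommutative Z := ⟨⟨fun a b => Subtype.ext (Subgroup.mem_center_iff.mp b.2 a)⟩⟩
  have hz : ∀ z ∈ Z, ∀ g : X, g * z = z * g := fun z hz g => Subgroup.mem_center_iff.mp hz g
  have hzst : ∀ φ ∈ A, ∀ b ∈ Z, φ b ∈ Z := fun φ _ b hb =>
    Subgroup.characteristic_iff_map_le.mp inferInstance φ (Subgroup.mem_map_of_mem _ hb)
  have hZfix : ∀ φ ∈ A, ∀ z ∈ Z, φ z = z := fun φ hφ =>
    fix_of_fix_omega S.pgroup S.odd hφ Z (hzst φ hφ) fun a ha => hfix φ hφ a ha.1 ha.2
  -- class two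
  set D : Subgroup X := commutator X with hD
  set W : Subgroup X := (Subgroup.center (X ⧸ Z)).comap (QuotientGroup.mk' Z) with hW
  have hWc : ∀ u ∈ W, ∀ g, ⁅g, u⁆ ∈ Z := fun u hu g => by
    refine (QuotientGroup.eq_one_iff _).mp ?_
    rw [← QuotientGroup.mk'_apply, map_commutatorElement, commutatorElement_eq_one_iff_mul_comm]
    exact Subgroup.mem_center_iff.mp hu _
  have hDW : ∀ u ∈ W, ∀ d ∈ D, d * u = u * d := by
    intro u hu d hd
    let f : X →* Z :=
      { toFun := fun g => ⟨⁅g, u⁆, hWc u hu g⟩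
        map_one' := Subtype.ext (by simp)
        map_mul' := fun g h => Subtype.ext (show ⁅g * h, u⁆ = ⁅g, u⁆ * ⁅h, u⁆ by
          rw [show ⁅g * h, u⁆ = g * ⁅h, u⁆ * g⁻¹ * ⁅g, u⁆ by simp only [commutatorElement_def]; group,
            hz _ (hWc u hu h) g, mul_inv_cancel_right, hz _ (hWc u hu g)]) }
    letI : CommGroup Z := { (inferInstance : Group Z) with mul_comm := hZc.is_comm.comm }
    have := (Abelianization.commutator_subset_ker f) hd
    exact commutatorElement_eq_one_iff_mul_comm.mp (congrArg Subtype.val this)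
  have hDWle : D ⊓ W ≤ Z := by
    haveI : IsMulCommutative (D ⊓ W : Subgroup X) :=
      ⟨⟨fun a b => Subtype.ext (hDW _ b.2.2 _ a.2.1)⟩⟩
    haveI : D.Normal := inferInstanceAs (commutator X).Normal
    haveI : W.Normal := inferInstanceAs ((Subgroup.center (X ⧸ Z)).comap (QuotientGroup.mk' Z)).Normal
    exact S.fixed_of_abelian hfix (D ⊓ W) fun φ _ b hb => ⟨
      (Subgroup.characteristic_iff_map_le.mp (inferInstanceAs (commutator X).Characteristic) φ)
        (Subgroup.mem_map_of_mem _ hb.1), by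
      refine Subgroup.mem_center_iff.mpr fun q => ?_
      obtain ⟨g, rfl⟩ := QuotientGroup.mk'_surjective Z q
      rw [← commutatorElement_eq_one_iff_mul_comm, ← map_commutatorElement]
      refine (QuotientGroup.eq_one_iff _).mpr ?_
      rw [show g = φ (φ⁻¹ g) from (MulAut.apply_inv_self X φ g).symm, ← map_commutatorElement]
      exact Subgroup.characteristic_iff_map_le.mp inferInstance φ (Subgroup.mem_map_of_mem _ (hWc b hb.2 _))⟩
  have hcls : D ≤ Z := by
    by_contra hle
    haveI : D.Normal := inferInstanceAs (commutator X).Normal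
    haveI : (D.map (QuotientGroup.mk' Z)).Normal :=
      Subgroup.Normal.map inferInstance _ (QuotientGroup.mk'_surjective Z)
    have hne : D.map (QuotientGroup.mk' Z) ≠ ⊥ := by
      rw [ne_eq, Subgroup.map_eq_bot_iff, QuotientGroup.ker_mk']
      exact hle
    obtain ⟨q, ⟨d, hd, rfl⟩, hqc, hq2⟩ :=
      PGroup.exists_orderOf_eq_mem_center (S.pgroup.to_quotient Z) _ hne
    rw [QuotientGroup.mk'_apply, (QuotientGroup.eq_one_iff _).mpr (hDWle ⟨hd, hqc⟩), orderOf_one] at hq2
    omega
  have hc : ∀ a b : X, ⁅a, b⁆ ∈ Z := fun a b =>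
    hcls (Subgroup.commutator_mem_commutator (Subgroup.mem_top a) (Subgroup.mem_top b))
  have hbl : ∀ a b c : X, ⁅a * b, c⁆ = ⁅a, c⁆ * ⁅b, c⁆ := fun a b c => by
    rw [show ⁅a * b, c⁆ = a * ⁅b, c⁆ * a⁻¹ * ⁅a, c⁆ by simp only [commutatorElement_def]; group,
      hz _ (hc b c) a, mul_inv_cancel_right, hz _ (hc a c)]
  have hpl : ∀ (a c : X) (n : ℕ), ⁅a ^ n, c⁆ = ⁅a, c⁆ ^ n := fun a c n => by
    induction n with
    | zero => simp
    | succ n ih => rw [pow_succ, hbl, ih, pow_succ]
  have hpr : ∀ (a c : X) (n : ℕ), ⁅a, c ^ n⁆ = ⁅a, c⁆ ^ n := fun a c n => by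
    rw [← commutatorElement_inv (c ^ n) a, hpl, ← inv_pow, commutatorElement_inv]
  -- exponent two
  have hstep : ∀ e : ℕ, 1 ≤ e → (∀ x y : X, ⁅x, y⁆ ^ 2 ^ (e + 1) = 1) → ∀ x y : X, ⁅x, y⁆ ^ 2 ^ e = 1 := by
    intro e he hyp x y
    set M := Subgroup.closure (Set.range fun t : X => t ^ 2 ^ e) with hM
    haveI : IsMulCommutative M := by
      refine Subgroup.isMulCommutative_closure ?_
      rintro _ ⟨s, rfl⟩ _ ⟨t, rfl⟩
      refine commutatorElement_eq_one_iff_mul_comm.mp ?_
      rw [hpl, hpr, ← pow_mul, ← pow_add]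
      obtain ⟨d, hd⟩ := Nat.le.dest (show e + 1 ≤ e + e by omega)
      rw [← hd, pow_add, pow_mul, hyp, one_pow]
    haveI : M.Normal := by
      refine ⟨fun n hn g => ?_⟩
      have : M.map (MulAut.conj g).toMonoidHom ≤ M := by
        rw [hM, MonoidHom.map_closure, Subgroup.closure_le]
        rintro _ ⟨_, ⟨t, rfl⟩, rfl⟩
        exact Subgroup.subset_closure ⟨g * t * g⁻¹, by simp⟩
      simpa using this (Subgroup.mem_map_of_mem _ hn)
    have hle := S.fixed_of_abelian hfix M fun φ _ b hb => by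
      have : M.map (φ : MulAut X).toMonoidHom ≤ M := by
        rw [hM, MonoidHom.map_closure, Subgroup.closure_le]
        rintro _ ⟨_, ⟨t, rfl⟩, rfl⟩
        exact Subgroup.subset_closure ⟨φ t, by simp⟩
      exact this (Subgroup.mem_map_of_mem _ hb)
    rw [← hpl]
    exact commutatorElement_eq_one_iff_mul_comm.mpr
      (hz _ (hle (Subgroup.subset_closure ⟨x, rfl⟩)) y).symm
  have hc2 : ∀ x y : X, ⁅x, y⁆ * ⁅x, y⁆ = 1 := by
    obtain ⟨n, hn⟩ := IsPGroup.iff_card.mp S.pgroup
    have hbig : ∀ x y : X, ⁅x, y⁆ ^ 2 ^ (n + 1) = 1 := fun x y => by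
      rw [pow_succ, pow_mul, ← hn, pow_card_eq_one', one_pow]
    have hdown : ∀ k, (∀ x y : X, ⁅x, y⁆ ^ 2 ^ (k + 1) = 1) → ∀ x y : X, ⁅x, y⁆ ^ 2 ^ 1 = 1 := by
      intro k
      induction k with
      | zero => exact fun h => h
      | succ k ih => exact fun h => ih (hstep (k + 1) (by omega) h)
    intro x y
    have := hdown n hbig x y
    rwa [pow_one, pow_two] at this
  have hsqZ : ∀ x : X, x * x ∈ Z := fun x => Subgroup.mem_center_iff.mpr fun g =>
    (commutatorElement_eq_one_iff_mul_comm.mp (by rw [hbl, hc2])).symm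
  -- squares lie in the derived group
  let θ : X →* Abelianization X :=
    { toFun := fun x => Abelianization.of (x * x)
      map_one' := by simp
      map_mul' := fun x y => by simp only [map_mul, mul_mul_mul_comm] }
  have hθ : ∀ x : X, x * x ∈ D := fun x => by
    have h := hom_eq_one S.gen θ (fun φ hφ y => by
      show Abelianization.of (φ y * φ y) = Abelianization.of (y * y)
      rw [← map_mul, hZfix φ hφ _ (hsqZ y)]) x
    exact (QuotientGroup.eq_one_iff _).mp h
  -- `Z = X'`
  have hZD : Z ≤ D := by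
    haveI : Fintype A := Fintype.ofFinite A
    let ν : X →* Abelianization X :=
      { toFun := fun x => ∏ φ : A, Abelianization.of ((φ : MulAut X) x)
        map_one' := by simp
        map_mul' := fun x y => by simp [Finset.prod_mul_distrib] }
    intro z hzZ
    have h1 := hom_eq_one S.gen ν (fun φ hφ y => by
      show ∏ ψ : A, Abelianization.of ((ψ : MulAut X) (φ y)) = ∏ ψ : A, Abelianization.of ((ψ : MulAut X) y)
      exact Fintype.prod_equiv (Equiv.mulRight (⟨φ, hφ⟩ : A)) _ _ fun ψ => rfl) z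
    have h2 : (Abelianization.of z) ^ Fintype.card A = 1 := by
      rw [← h1]
      show _ = ∏ φ : A, Abelianization.of ((φ : MulAut X) z)
      rw [Finset.prod_congr rfl fun φ _ => by rw [hZfix φ.1 φ.2 z hzZ], Finset.prod_const, Finset.card_univ]
    have h3 : (Abelianization.of z) ^ 2 = 1 := by
      rw [pow_two, ← map_mul]
      exact (QuotientGroup.eq_one_iff _).mpr (hθ z)
    obtain ⟨m, hm⟩ := S.odd
    rw [← Nat.card_eq_fintype_card, hm, pow_succ, pow_mul, h3, one_pow, one_mul] at h2
    exact (QuotientGroup.eq_one_iff _).mp h2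
  have hDZ : D = Z := le_antisymm hcls hZD
  have hDsq : ∀ d ∈ D, d * d = 1 := by
    intro d hd
    let P : Subgroup X :=
      { carrier := {g | g ∈ Z ∧ g * g = 1}
        one_mem' := ⟨one_mem _, one_mul 1⟩
        mul_mem' := fun {a b} ha hb => ⟨mul_mem ha.1 hb.1, by
          calc a * b * (a * b) = a * (b * a) * b := by group
            _ = a * a * (b * b) := by rw [hz a ha.1 b]; group
            _ = 1 := by rw [ha.2, hb.2, one_mul]⟩
        inv_mem' := fun {a} ha => ⟨inv_mem ha.1, by rw [← mul_inv_rev, ha.2, inv_one]⟩ }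
    have : D ≤ P := by
      rw [hD, commutator_def, Subgroup.commutator_le]
      exact fun a _ b _ => ⟨hc a b, hc2 a b⟩
    exact (this hd).2
  refine ⟨hc, hsqZ, fun z h => hDsq z (hZD h), hZfix, ?_, S.pgroup, ?_, hDZ⟩
  · exact S.small Z inferInstance ⟨hZc, fun a ha => by rw [pow_two]; exact hDsq a (hZD ha)⟩
  · refine le_antisymm (PGroup.frattini_le (p := 2) hDZ.le fun x => by rw [pow_two]; exact hsqZ x) ?_
    rw [← hZdef, ← hDZ]
    exact PGroup.commutator_le_frattini S.pgroup

end Base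

end Cfsg.Agent.NoScnThree
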